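import Groth.Agent.Curves.K333.OmegaFam
import Groth.Agent.PicF.K247.SmoothGI
import Groth.Agent.Coherent.K471.VaLift
import Groth.Agent.Mor.K387.PnLocal
import Groth.Agent.Mor.K386.VAPn
import Groth.Agent.S1536
import Groth.Agent.S1611

/-!
# Fibres of a smooth relative curve and invertible modules of large fibre degree

* `FibHyp`: the fibre of `f` at `s` and the fibre degree hypothesis;
* `isRelVeryAmplePn_fiber`, `subsingleton_fiberH_pow`: very ampleness and vanishing on the fibres for degree `≥ 2g + 1`;
* `isRelVeryAmplePn_of_fiber`: very ampleness over an affine base.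
-/

set_option autoImplicit false
universe u
open CategoryTheory CategoryTheory.Limits AlgebraicGeometry TopologicalSpace Opposite

namespace K386.FibDeg

open Groth.Agent K333.Fam K43.VADef

section Field

variable (k : Type u) [Field k] (X : Scheme.{u}) [X.Over (Spec (CommRingCat.of k))]
  [IsProper (X ↘ (Spec (CommRingCat.of k)))] [Smooth (X ↘ (Spec (CommRingCat.of k)))]
  [GeometricallyConnected (X ↘ (Spec (CommRingCat.of k)))] (hdim : topologicalKrullDim X = 1)

include k in
omit [IsProper (X ↘ (Spec (CommRingCat.of k)))] in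
theorem isIntegral : IsIntegral X := by
  have h1 : ConnectedSpace X := GeometricallyConnected.connectedSpace_of_subsingleton
    (X ↘ (Spec (CommRingCat.of k)))
  exact Pi1.H536.CurveFam.isIntegral_of_smooth k (X ↘ (Spec (CommRingCat.of k)))

theorem h0 : Module.finrank k (Coh.HH X (Coh.structureModule X) 0) = 1 := by
  have h1 : GeometricallyIntegral (X ↘ (Spec (CommRingCat.of k))) := K333.FibreVA.geometricallyIntegral _
  exact S1536.result k X

include hdim in
theorem isRelVeryAmplePn {L : X.Modules} (hL : PicF.IsInvertible L)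
    (hdeg : 2 * (Curv2.genus k X : ℤ) + 1 ≤ Curv2.deg k X L 1) :
    RelAmple.IsRelVeryAmplePn (X ↘ (Spec (CommRingCat.of k))) L := by
  have h1 : GeometricallyIntegral (X ↘ (Spec (CommRingCat.of k))) := K333.FibreVA.geometricallyIntegral _
  obtain ⟨m, i, hi, hp, e⟩ := S1611.result k X hdim (h0 k X) L hL hdeg
  exact K333.FibreVA.isRelVeryAmplePn_of_closedImmersion _ _ i hi hp e

include hdim in
theorem subsingleton_pow {L : X.Modules} (hL : PicF.IsInvertible L)
    (hdeg : 2 * (Curv2.genus k X : ℤ) + 1 ≤ Curv2.deg k X L 1) (n : ℕ) (hn : 1 ≤ n) :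
    Subsingleton (Coh.HH X (CohB1.tensorPow L n) 1) := by
  have hi := isIntegral k X
  refine K333.FibreVA.subsingleton_h1 k X hdim (h0 k X) _ (Fdesc.LocGen.isInvertible_tensorPow hL n) ?_
  rw [S1530.deg_tensorPow k hdim hL n]
  have h2 : (1 : ℤ) ≤ n := by exact_mod_cast hn
  have h3 : (0 : ℤ) ≤ Curv2.genus k X := by positivity
  nlinarith

end Field

section Fam

variable {X S : Scheme.{u}} (f : X ⟶ S) [IsProper f] [Smooth f] [GeometricallyConnected f]
    (hdim : ∀ s : S, topologicalKrullDim ↥(f.fiber s) = 1)
    (g : ℕ) (hgen : ∀ s : S, letI : (f.fiber s).Over (Spec (S.residueField s)) := ⟨f.fiberToSpecResidueField s⟩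
      Curv2.genus (S.residueField s) (f.fiber s) = g)
    (L : X.Modules) (hL : PicF.IsInvertible L)
    (hdeg : ∀ s : S, letI : (f.fiber s).Over (Spec (S.residueField s)) := ⟨f.fiberToSpecResidueField s⟩
      2 * (g : ℤ) + 1 ≤ Curv2.deg (S.residueField s) (f.fiber s) (CohIII.fiberMod f L s) 1)

include hdim hgen hL hdeg

theorem isRelVeryAmplePn_fiber (s : S) :
    RelAmple.IsRelVeryAmplePn (f.fiberToSpecResidueField s) (CohIII.fiberMod f L s) := by
  let _ : (f.fiber s).Over (Spec (CommRingCat.of (S.residueField s))) := ⟨f.fiberToSpecResidueField s⟩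
  have H := isPullback_fiber f s
  have h1 : IsProper ((f.fiber s) ↘ (Spec (CommRingCat.of (S.residueField s)))) :=
    MorphismProperty.of_isPullback H inferInstance
  have h2 : Smooth ((f.fiber s) ↘ (Spec (CommRingCat.of (S.residueField s)))) :=
    MorphismProperty.of_isPullback H inferInstance
  have h3 : GeometricallyConnected ((f.fiber s) ↘ (Spec (CommRingCat.of (S.residueField s)))) :=
    MorphismProperty.of_isPullback H inferInstance
  refine isRelVeryAmplePn (S.residueField s) (f.fiber s) (hdim s) (Fdesc.LocGen.isInvertible_pullback _ hL) ?_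
  have h4 : Curv2.genus (S.residueField s) (f.fiber s) = g := hgen s
  rw [h4]
  exact hdeg s

theorem subsingleton_fiberH_pow (s : S) (n : ℕ) (hn : 1 ≤ n) :
    Subsingleton (CohIII.fiberH f (CohB1.tensorPow L n) s 1) := by
  let _ : (f.fiber s).Over (Spec (CommRingCat.of (S.residueField s))) := ⟨f.fiberToSpecResidueField s⟩
  have H := isPullback_fiber f s
  have h1 : IsProper ((f.fiber s) ↘ (Spec (CommRingCat.of (S.residueField s)))) :=
    MorphismProperty.of_isPullback H inferInstance
  have h2 : Smooth ((f.fiber s) ↘ (Spec (CommRingCat.of (S.residueField s)))) :=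
    MorphismProperty.of_isPullback H inferInstance
  have h3 : GeometricallyConnected ((f.fiber s) ↘ (Spec (CommRingCat.of (S.residueField s)))) :=
    MorphismProperty.of_isPullback H inferInstance
  have h4 : Curv2.genus (S.residueField s) (f.fiber s) = g := hgen s
  have h5 := subsingleton_pow (S.residueField s) (f.fiber s) (hdim s)
    (Fdesc.LocGen.isInvertible_pullback (f.fiberι s) hL) (by rw [h4]; exact hdeg s) n hn
  obtain ⟨e⟩ := Ega3B.PullTensor.nonempty_pullPowIso (f.fiberι s) hL n
  exact @Equiv.subsingleton _ _ (Fga.EulerIso.HHequiv (S.residueField s) e 1).toEquiv h5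

theorem subsingleton_fiberH (s : S) : Subsingleton (CohIII.fiberH f L s 1) := by
  let _ : (f.fiber s).Over (Spec (CommRingCat.of (S.residueField s))) := ⟨f.fiberToSpecResidueField s⟩
  have H := isPullback_fiber f s
  have h1 : IsProper ((f.fiber s) ↘ (Spec (CommRingCat.of (S.residueField s)))) :=
    MorphismProperty.of_isPullback H inferInstance
  have h2 : Smooth ((f.fiber s) ↘ (Spec (CommRingCat.of (S.residueField s)))) :=
    MorphismProperty.of_isPullback H inferInstance
  have h3 : GeometricallyConnected ((f.fiber s) ↘ (Spec (CommRingCat.of (S.residueField s)))) :=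
    MorphismProperty.of_isPullback H inferInstance
  have h4 : Curv2.genus (S.residueField s) (f.fiber s) = g := hgen s
  have hi := isIntegral (S.residueField s) (f.fiber s)
  refine K333.FibreVA.subsingleton_h1 (S.residueField s) (f.fiber s) (hdim s) (h0 (S.residueField s) (f.fiber s)) _
    (Fdesc.LocGen.isInvertible_pullback (f.fiberι s) hL) ?_
  have h5 : 2 * (g : ℤ) + 1 ≤ Curv2.deg (S.residueField s) (f.fiber s) (CohIII.fiberMod f L s) 1 := hdeg s
  rw [h4]
  change _ < Curv2.deg (S.residueField s) (f.fiber s) (CohIII.fiberMod f L s) 1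
  omega

theorem va_id [IsLocallyNoetherian S] : VA f (𝟙 ((Scheme.Modules.pushforward f).obj L)) := by
  choose V hyV hV using fun y : S => K471.VaLift.exists_near f y L hL
    (isRelVeryAmplePn_fiber f hdim g hgen L hL hdeg y) (subsingleton_fiberH f hdim g hgen L hL hdeg y)
  exact (K387.PnLocal.va_of_openCover f L hL V (by
    rw [eq_top_iff]
    intro y _
    exact Opens.mem_iSup.mpr ⟨y, hyV y⟩) hV).2

theorem isRelVeryAmplePn_of_fiber [IsLocallyNoetherian S] [IsAffine S] : RelAmple.IsRelVeryAmplePn f L :=
  K386.VAPn.isRelVeryAmplePn_of_va f hL _ (va_id f hdim g hgen L hL hdeg)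

end Fam

end K386.FibDeg
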