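import Groth.Agent.Curves.K334.Hopf
import Mathlib.LinearAlgebra.Dual.Lemmas
import Mathlib.RingTheory.Artinian.Module
import Mathlib.LinearAlgebra.FiniteDimensional.Lemmas

/-!
# The Castelnuovo–Mattuck–Mumford theorem, algebraic core

`A → C ← B` are the rings of functions on the members of an affine cover of a curve and on their intersection, `x` is
the quotient of two sections of an invertible module which generate it on the members of the cover, and
`V n ⊆ A` is the space of sections of the `n`-th power: the elements which are of the form `x^n b` with `b ∈ B`.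

* `mem_add_of_mem`: `V (n+1) = V n + x V n` for `n ≥ 2`, if `H^1` of the invertible module vanishes;
* `mem_mul_of_mem`: `V 2 = V 1 · V 1`, if moreover `dim V 1 ≥ g + 2`.
-/

set_option autoImplicit false
universe u

namespace K386.NGAlg

variable {k : Type u} [Field k] {A B C : Type u} [CommRing A] [CommRing B] [CommRing C]
  [Algebra k A] [Algebra k B] [Algebra k C] (i : A →ₐ[k] C) (j : B →ₐ[k] C) (x : A) (y : B)

/-- The sections of the `n`-th power. -/
def V (n : ℕ) : Submodule k A where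
  carrier := {a | ∃ b : B, i a = i x ^ n * j b}
  add_mem' := by
    rintro a a' ⟨b, hb⟩ ⟨b', hb'⟩
    exact ⟨b + b', by rw [map_add, map_add, hb, hb', mul_add]⟩
  zero_mem' := ⟨0, by rw [map_zero, map_zero, mul_zero]⟩
  smul_mem' := by
    rintro c a ⟨b, hb⟩
    exact ⟨c • b, by rw [map_smul, map_smul, hb, mul_smul_comm]⟩

theorem mem_V {n : ℕ} {a : A} : a ∈ V i j x n ↔ ∃ b : B, i a = i x ^ n * j b := Iff.rfl

theorem mul_mem {m n : ℕ} {a b : A} (ha : a ∈ V i j x m) (hb : b ∈ V i j x n) : a * b ∈ V i j x (m + n) := by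
  obtain ⟨a', ha⟩ := ha
  obtain ⟨b', hb⟩ := hb
  exact ⟨a' * b', by rw [map_mul, map_mul, ha, hb, pow_add]; ring⟩

theorem one_mem_V : (1 : A) ∈ V i j x 0 := ⟨1, by rw [map_one, map_one, _root_.pow_zero, mul_one]⟩

theorem x_mem : x ∈ V i j x 1 := ⟨1, by rw [map_one, mul_one, pow_one]⟩

variable {i j x y} (hxy : i x * j y = 1)

include hxy

theorem mono {m n : ℕ} (h : m ≤ n) : V i j x m ≤ V i j x n := by
  rintro a ⟨b, hb⟩
  refine ⟨y ^ (n - m) * b, ?_⟩
  have h1 : i x ^ n = i x ^ m * i x ^ (n - m) := by rw [← pow_add, Nat.add_sub_cancel' h]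
  have h2 : i x ^ (n - m) * j y ^ (n - m) = 1 := by rw [← mul_pow, hxy, one_pow]
  rw [hb, h1, map_mul, map_pow]
  linear_combination (-(i x ^ m * j b)) * h2

theorem of_mul_x {n : ℕ} {a : A} (h : x * a ∈ V i j x (n + 1)) : a ∈ V i j x n := by
  obtain ⟨b, hb⟩ := h
  refine ⟨b, ?_⟩
  rw [map_mul, pow_succ] at hb
  linear_combination (j y) * hb - (i a - i x ^ n * j b) * hxy

variable (h1 : ∀ c : C, ∃ (a : A) (b : B), c = i a + i x * j b)

include h1

/-- Elements of `A` modulo `x` come from sections of the square. -/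
theorem exists_add (a : A) (n : ℕ) (hn : 1 ≤ n) : ∃ v ∈ V i j x (n + 1), ∃ a' : A, a = v + x * a' := by
  obtain ⟨a₁, b₁, hab₁⟩ := h1 (i a * j y)
  refine ⟨a - x * a₁, mono hxy (show 2 ≤ n + 1 by omega) ⟨b₁, ?_⟩, a₁, by ring⟩
  rw [map_sub, map_mul]
  linear_combination (i x) * hab₁ - (i a) * hxy

/-- `V (n + 1) = V n + x V n` for `n ≥ 2`. -/
theorem exists_eq_add {n : ℕ} (hn : 2 ≤ n) {v : A} (hv : v ∈ V i j x (n + 1)) :
    ∃ v₁ ∈ V i j x n, ∃ v₂ ∈ V i j x n, v = v₁ + x * v₂ := by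
  obtain ⟨b, hb⟩ := hv
  obtain ⟨a', b', hab⟩ := h1 (i v * j y)
  have hp : ∀ m : ℕ, i x ^ m * j y ^ m = 1 := fun m => by rw [← mul_pow, hxy, one_pow]
  have hn1 : i x ^ n = i x ^ 2 * i x ^ (n - 2) := by rw [← pow_add, Nat.add_sub_cancel' hn]
  -- `a' = v / x - x b'`
  have ha' : a' ∈ V i j x n := by
    refine ⟨b - y ^ (n - 1) * b', ?_⟩
    have h2 : i x ^ n = i x * i x ^ (n - 1) := by rw [← pow_succ', Nat.sub_add_cancel (by omega)]
    rw [map_sub, map_mul, map_pow]
    have h3 := hp (n - 1)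
    have h4 : i x ^ n * (j y ^ (n - 1) * j b') = i x * j b' := by
      rw [h2]; linear_combination (i x * j b') * h3
    rw [mul_sub, h4]
    rw [pow_succ] at hb
    linear_combination (-1 : C) * hab + (j y) * hb + (i x ^ n * j b) * hxy
  refine ⟨v - x * a', ?_, a', ha', by ring⟩
  refine mono hxy hn ⟨b', ?_⟩
  rw [map_sub, map_mul]
  linear_combination (i x) * hab - (i v) * hxy

omit hxy h1 in
theorem x_mul_mem {n : ℕ} {a : A} (ha : a ∈ V i j x n) : x * a ∈ V i j x (n + 1) := by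
  have := mul_mem i j x (x_mem i j x) ha
  rwa [add_comm] at this

section Core

omit hxy in
/-- The functionals on `A` which vanish on `V 1`, as functionals on `C`. -/
theorem exists_ext : ∃ E : C →ₗ[k] A, ∀ (a : A) (b : B), E (i a + i x * j b) - a ∈ V i j x 1 := by
  let S : (A × B) →ₗ[k] C := i.toLinearMap.coprod ((LinearMap.mulLeft k (i x)) ∘ₗ j.toLinearMap)
  have hS : LinearMap.range S = ⊤ := by
    rw [LinearMap.range_eq_top]
    intro c
    obtain ⟨a, b, hab⟩ := h1 c
    exact ⟨(a, b), hab.symm⟩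
  obtain ⟨σ, hσ⟩ := S.exists_rightInverse_of_surjective hS
  refine ⟨LinearMap.fst k A B ∘ₗ σ, fun a b => ?_⟩
  have h2 : S (σ (i a + i x * j b)) = i a + i x * j b := congr($hσ _)
  refine ⟨b - (σ (i a + i x * j b)).2, ?_⟩
  have h3 : S (σ (i a + i x * j b)) = i (σ (i a + i x * j b)).1 + i x * j (σ (i a + i x * j b)).2 := rfl
  rw [h3] at h2
  change i ((σ (i a + i x * j b)).1 - a) = _
  rw [map_sub, map_sub]
  linear_combination h2

variable [IsAlgClosed k]

/-- `V 2 = V 1 · V 1`. -/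
theorem mem_mul_of_mem (hi : Function.Injective i) (g : ℕ) [Module.Finite k (V i j x 1)]
    [Module.Finite k (C ⧸ (LinearMap.range i.toLinearMap ⊔ LinearMap.range j.toLinearMap))]
    (hg : Module.finrank k (C ⧸ (LinearMap.range i.toLinearMap ⊔ LinearMap.range j.toLinearMap)) ≤ g)
    (hdim : g + 2 ≤ Module.finrank k (V i j x 1))
    (hArt : ∀ w ∈ V i j x 1, w ≠ 0 → Module.Finite k (A ⧸ Ideal.span {w}))
    {v : A} (hv : v ∈ V i j x 2) : v ∈ V i j x 1 * V i j x 1 := by
  classical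
  by_contra hvP
  have hP2 : V i j x 1 * V i j x 1 ≤ V i j x 2 := Submodule.mul_le.2 fun a ha b hb => mul_mem i j x ha hb
  have hx0 : x ≠ 0 := by
    rintro rfl
    rw [map_zero, zero_mul] at hxy
    have hC : Subsingleton C := subsingleton_of_zero_eq_one hxy
    have hA : Subsingleton A := hi.subsingleton
    have : Subsingleton (V i j (0 : A) 1) := inferInstance
    rw [Module.finrank_zero_of_subsingleton] at hdim
    omega
  have hvQ : v ∉ V i j x 1 * V i j x 1 ⊔ (Ideal.span {x}).restrictScalars k := by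
    intro h
    obtain ⟨p, hp, q, hq, hpq⟩ := Submodule.mem_sup.1 h
    obtain ⟨a, rfl⟩ := Ideal.mem_span_singleton'.1 (show q ∈ Ideal.span {x} from hq)
    have h2 : x * a ∈ V i j x 2 := by
      have : x * a = v - p := by rw [← hpq]; ring
      rw [this]
      exact Submodule.sub_mem _ hv (hP2 hp)
    have h3 := Submodule.mul_mem_mul (x_mem i j x) (of_mul_x hxy h2)
    apply hvP
    rw [← hpq, mul_comm a x]
    exact Submodule.add_mem _ hp h3
  obtain ⟨φ, hφv, hφ⟩ := Submodule.exists_le_ker_of_notMem hvQ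
  have hφP : ∀ a ∈ V i j x 1, ∀ b ∈ V i j x 1, φ (a * b) = 0 := fun a ha b hb =>
    hφ ((le_sup_left : _ ≤ V i j x 1 * V i j x 1 ⊔ (Ideal.span {x}).restrictScalars k) (Submodule.mul_mem_mul ha hb))
  have hφx : ∀ a, φ (x * a) = 0 := fun a =>
    hφ ((le_sup_right : _ ≤ V i j x 1 * V i j x 1 ⊔ (Ideal.span {x}).restrictScalars k)
      (Ideal.mem_span_singleton'.2 ⟨a, mul_comm _ _⟩))
  -- the radical of the form
  let β : A →ₗ[k] Module.Dual k A := (LinearMap.mul k A).compr₂ φ
  have hβ : ∀ a b, β a b = φ (a * b) := fun a b => rfl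
  let I : Ideal A :=
    { carrier := {a | ∀ b, φ (a * b) = 0}
      add_mem' := fun {a a'} ha ha' b => by rw [add_mul, map_add, ha, ha', add_zero]
      zero_mem' := fun b => by rw [zero_mul, map_zero]
      smul_mem' := fun c a ha b => by rw [smul_eq_mul, mul_comm c a, mul_assoc]; exact ha _ }
  have hI : ∀ a, a ∈ I ↔ ∀ b, φ (a * b) = 0 := fun a => Iff.rfl
  have hxI : Ideal.span {x} ≤ I := by
    rw [Ideal.span_singleton_le_iff_mem]
    exact fun b => hφx b
  let T : Submodule k A := I.restrictScalars k ⊔ V i j x 1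
  have hfT : Module.Finite k (A ⧸ T) := by
    have h2 := hArt x (x_mem i j x) hx0
    have h3 : (Ideal.span {x} : Ideal A).restrictScalars k ≤ T := le_sup_of_le_left hxI
    have h4 : Module.Finite k (A ⧸ (Ideal.span {x} : Ideal A).restrictScalars k) :=
      Module.Finite.equiv (Submodule.Quotient.restrictScalarsEquiv k (Ideal.span {x} : Ideal A)).symm
    exact Module.Finite.of_surjective (Submodule.factor h3) (Submodule.factor_surjective h3)
  let N : Submodule k (Module.Dual k A) := T.dualAnnihilator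
  have hfN : Module.Finite k N := Module.Finite.equiv T.dualQuotEquivDualAnnihilator
  -- isotropy
  have hβN : ∀ a : V i j x 1, β a ∈ N := by
    intro a
    rw [Submodule.mem_dualAnnihilator]
    intro b hb
    obtain ⟨c, hc, d, hd, rfl⟩ := Submodule.mem_sup.1 hb
    rw [hβ, mul_add, map_add, hφP _ a.2 _ hd, mul_comm, (hI c).1 hc, add_zero]
  let f : V i j x 1 →ₗ[k] N := (β ∘ₗ (V i j x 1).subtype).codRestrict N hβN
  have hf := LinearMap.finrank_range_add_finrank_ker (K := k) (V := V i j x 1) (V₂ := N) f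
  have hf2 := (LinearMap.range f).finrank_le
  have hker : ∀ w : LinearMap.ker f, (w.1.1 : A) ∈ I := fun w b => by
    have h2 : f w.1 = 0 := w.2
    have h3 := congrArg (fun z : N => z.1 b) h2
    exact h3
  have hN : Nontrivial N := by
    by_contra hN
    rw [not_nontrivial_iff_subsingleton] at hN
    have h2 : T = ⊤ := by
      rw [← Submodule.dualAnnihilator_eq_bot_iff, Submodule.eq_bot_iff]
      intro ψ hψ
      exact congrArg Subtype.val (Subsingleton.elim (⟨ψ, hψ⟩ : N) 0)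
    have h3 : V i j x 1 ≤ I.restrictScalars k := by
      intro a ha
      exact hker ⟨⟨a, ha⟩, Subsingleton.elim _ _⟩
    have h4 : v ∈ I.restrictScalars k ⊔ V i j x 1 := by
      change v ∈ T
      rw [h2]
      trivial
    rw [sup_eq_left.2 h3] at h4
    have h5 := (hI v).1 h4 1
    rw [mul_one] at h5
    exact hφv h5
  have hW : Nontrivial (LinearMap.ker f) := by
    refine ⟨⟨⟨x, x_mem i j x⟩, ?_⟩, 0, fun h => hx0 (congrArg (fun z : LinearMap.ker f => (z.1.1 : A)) h)⟩
    rw [LinearMap.mem_ker]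
    ext b
    exact hφx b
  obtain ⟨E, hE⟩ := exists_ext h1 (k := k)
  let R : Submodule k C := LinearMap.range i.toLinearMap ⊔ LinearMap.range j.toLinearMap
  have hψV : ∀ ψ : N, ∀ a ∈ V i j x 1, ψ.1 a = 0 := fun ψ a ha =>
    (Submodule.mem_dualAnnihilator _).1 ψ.2 a ((le_sup_right : V i j x 1 ≤ T) ha)
  have hψI : ∀ ψ : N, ∀ a ∈ I, ψ.1 a = 0 := fun ψ a ha =>
    (Submodule.mem_dualAnnihilator _).1 ψ.2 a ((le_sup_left : I.restrictScalars k ≤ T) ha)
  have hψE : ∀ (ψ : N) (a : A) (b : B), ψ.1 (E (i a + i x * j b)) = ψ.1 a := fun ψ a b => by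
    have := hψV ψ _ (hE a b)
    rw [map_sub] at this
    exact sub_eq_zero.1 this
  have hR : ∀ (w : LinearMap.ker f) (ψ : N), R ≤ LinearMap.ker ((ψ.1 ∘ₗ E) ∘ₗ LinearMap.mulLeft k (i w.1.1)) := by
    intro w ψ
    refine sup_le ?_ ?_
    · rintro _ ⟨a, rfl⟩
      have h2 := hψE ψ (w.1.1 * a) 0
      rw [map_zero, mul_zero, add_zero, map_mul i] at h2
      exact h2.trans (hψI ψ _ (I.mul_mem_right _ (hker w)))
    · rintro _ ⟨b, rfl⟩
      obtain ⟨b', hb'⟩ := w.1.2
      have h2 := hψE ψ 0 (b' * b)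
      rw [map_zero i, zero_add, map_zero ψ.1, map_mul j] at h2
      change ψ.1 (E (i w.1.1 * j b)) = 0
      rw [hb', pow_one, mul_assoc]
      exact h2
  let Bil : LinearMap.ker f →ₗ[k] N →ₗ[k] Module.Dual k (C ⧸ R) :=
    LinearMap.mk₂ k (fun w ψ => R.liftQ ((ψ.1 ∘ₗ E) ∘ₗ LinearMap.mulLeft k (i w.1.1)) (hR w ψ))
      (fun w w' ψ => by
        ext c
        change ψ.1 (E (i (w.1.1 + w'.1.1) * c)) = ψ.1 (E (i w.1.1 * c)) + ψ.1 (E (i w'.1.1 * c))
        rw [map_add, add_mul, map_add, map_add])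
      (fun r w ψ => by
        ext c
        change ψ.1 (E (i (r • w.1.1) * c)) = r • ψ.1 (E (i w.1.1 * c))
        rw [map_smul, smul_mul_assoc, map_smul, map_smul])
      (fun w ψ ψ' => by ext c; rfl)
      (fun r w ψ => by ext c; rfl)
  have hB : ∀ (w : LinearMap.ker f) (ψ : N), Bil w ψ = 0 → w = 0 ∨ ψ = 0 := by
    intro w ψ hwψ
    by_contra hcon
    push Not at hcon
    obtain ⟨hw, hψ⟩ := hcon
    have hw0 : (w.1.1 : A) ≠ 0 := fun h => hw (Subtype.ext (Subtype.ext h))
    have hfw := hArt _ w.1.2 hw0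
    have hart : IsArtinian A (A ⧸ Ideal.span {(w.1.1 : A)}) := isArtinian_of_tower k inferInstance
    apply hψ
    refine Subtype.ext (LinearMap.ext fun a => ?_)
    obtain ⟨m, y', hy'⟩ := IsArtinian.exists_pow_succ_smul_dvd x (Ideal.Quotient.mk (Ideal.span {(w.1.1 : A)}) a)
    obtain ⟨b, rfl⟩ := Ideal.Quotient.mk_surjective y'
    have h2 : Ideal.Quotient.mk (Ideal.span {(w.1.1 : A)}) (x ^ m.succ * b) =
        Ideal.Quotient.mk (Ideal.span {(w.1.1 : A)}) (x ^ m * a) := hy'
    rw [Ideal.Quotient.eq] at h2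
    obtain ⟨a', ha'⟩ := Ideal.mem_span_singleton'.1 h2
    have hp : i x ^ m * j y ^ m = 1 := by rw [← mul_pow, hxy, one_pow]
    have h3 : i a = i (x * b) - i w.1.1 * (i a' * j y ^ m) := by
      have h4 := congrArg i ha'
      rw [map_sub, map_mul, map_mul, map_mul, map_pow, map_pow, pow_succ] at h4
      rw [map_mul]
      linear_combination (j y ^ m) * h4 + (i x * i b - i a) * hp
    have h5 : ψ.1 (E (i w.1.1 * (i a' * j y ^ m))) = 0 :=
      congr($hwψ (R.mkQ (i a' * j y ^ m)))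
    have h6 := hψE ψ a 0
    have h7 := hψE ψ (x * b) 0
    rw [map_zero, mul_zero, add_zero] at h6 h7
    rw [← h6, h3, map_sub, map_sub, h5, sub_zero, h7]
    exact hψI ψ _ (I.mul_mem_right _ (hxI (Ideal.mem_span_singleton_self x)))
  have hopf := K334.Hopf.hopf (k := k) (V := LinearMap.ker f) (W := N) (U := Module.Dual k (C ⧸ R)) Bil hB
  rw [Subspace.dual_finrank_eq] at hopf
  have : Module.finrank k (C ⧸ R) ≤ g := hg
  omega

end Core

end K386.NGAlg
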