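import Groth.Agent.Curves.K386.NGAlg
import Groth.Agent.CurvesB.OnePoint
import Groth.Agent.Curves.K327.TwoSec
import Groth.Agent.Curves.K334.Clifford
import Groth.Agent.Curves.K333.FibreVA
import Groth.Agent.BSB.K946.NormGen
import Groth.Agent.S1533

/-!
# Normal generation on a curve over an algebraically closed field

`prods_eq_top`: `X` integral proper of dimension one over an algebraically closed field, `L` invertible of degree
`≥ 2g + 1`: the sections of `L^(n+1)` are sums of products of sections of `L^n` and `L` for `n ≥ 1`.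
-/

set_option autoImplicit false
universe u
open CategoryTheory CategoryTheory.Limits AlgebraicGeometry Opposite TopologicalSpace

namespace K386.NGCurve

open Groth.Agent Groth.Agent.Fdesc.LocGen Groth.Agent.CurvesB K946.NormGen K386.NGAlg

variable {X : Scheme.{u}}

section Glue

variable (M : X.Modules) {U W : X.Opens} (hUW : U ⊔ W = ⊤)

include hUW

theorem exists_glue (s : Γ(M, U)) (t : Γ(M, W))
    (h : res M (inf_le_left : U ⊓ W ≤ U) s = res M (inf_le_right : U ⊓ W ≤ W) t) :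
    ∃ r : Γ(M, ⊤), res M le_top r = s ∧ res M le_top r = t := by
  let ι : Bool → X.Opens := fun b => match b with
    | true => U
    | false => W
  have hι : (⊤ : X.Opens) ≤ iSup ι := hUW ▸ sup_le (le_iSup ι true) (le_iSup ι false)
  let sf : ∀ b : Bool, Γ(M, ι b) := fun b => match b with
    | true => s
    | false => t
  let iUV : ∀ b : Bool, ι b ⟶ ⊤ := fun b => homOfLE le_top
  obtain ⟨r, hr, -⟩ := TopCat.Sheaf.existsUnique_gluing' ⟨M.presheaf, M.isSheaf⟩ ι ⊤ iUV hι sf (by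
    rintro (_ | _) (_ | _)
    · rfl
    · have := congrArg (M.presheaf.map (homOfLE (le_of_eq (inf_comm W U)) : W ⊓ U ⟶ U ⊓ W).op) h
      change M.presheaf.map _ (M.presheaf.map _ s) = M.presheaf.map _ (M.presheaf.map _ t) at this
      rw [← ConcreteCategory.comp_apply, ← ConcreteCategory.comp_apply, ← Functor.map_comp,
        ← Functor.map_comp] at this
      exact this.symm
    · exact h
    · rfl)
  exact ⟨r, hr true, hr false⟩

theorem exists_of_chart {p : Γ(M, U)} {q : Γ(M, W)} {c : Γ(X, U ⊓ W)}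
    (hc : res M inf_le_right q = c • res M inf_le_left p) (a : Γ(X, U)) (b : Γ(X, W))
    (hab : ores inf_le_left a = c * ores inf_le_right b) :
    ∃ r : Γ(M, ⊤), res M le_top r = a • p ∧ res M le_top r = b • q := by
  refine exists_glue M hUW _ _ ?_
  rw [res_smul, res_smul, hc, smul_smul, hab, mul_comm c]

end Glue

/-- The constants. -/
noncomputable abbrev algΓ (k : Type u) [Field k] (X : Scheme.{u}) [X.Over (Spec (CommRingCat.of k))] (U : X.Opens) :
    Algebra k Γ(X, U) :=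
  ((ores (le_top : U ≤ ⊤)).comp (HZero.gl k X)).toAlgebra

/-- The restriction as a morphism of algebras. -/
noncomputable def rk (k : Type u) [Field k] (X : Scheme.{u}) [X.Over (Spec (CommRingCat.of k))] {U V : X.Opens}
    (h : V ≤ U) : letI := algΓ k X U; letI := algΓ k X V; Γ(X, U) →ₐ[k] Γ(X, V) :=
  letI := algΓ k X U
  letI := algΓ k X V
  { ores h with
    commutes' := fun c => by
      change ores h (ores le_top (HZero.gl k X c)) = ores le_top (HZero.gl k X c)
      rw [ores_ores] }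

section Chart

variable (k : Type u) [Field k] [X.Over (Spec (CommRingCat.of k))] {L : X.Modules} {U W : X.Opens} (s t : Γ(L, ⊤))
  (hU : IsGen (res L (le_top : U ≤ ⊤) t)) (hW : IsGen (res L (le_top : W ≤ ⊤) s)) {x : Γ(X, U)} {y : Γ(X, W)}
  (hx : res L (le_top : U ≤ ⊤) s = x • res L (le_top : U ≤ ⊤) t)
  (hy : res L (le_top : W ≤ ⊤) t = y • res L (le_top : W ≤ ⊤) s)

include hx

theorem res_inf : res L (inf_le_right : U ⊓ W ≤ W) (res L (le_top : W ≤ ⊤) s) =
    ores (inf_le_left : U ⊓ W ≤ U) x • res L (inf_le_left : U ⊓ W ≤ U) (res L (le_top : U ≤ ⊤) t) := by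
  rw [← res_smul, ← hx, res_res, res_res]

include hU hy in
theorem mul_eq_one : ores (inf_le_left : U ⊓ W ≤ U) x * ores (inf_le_right : U ⊓ W ≤ W) y = 1 := by
  apply (hU.res (inf_le_left : U ⊓ W ≤ U)).ext
  rw [one_smul, mul_comm, mul_smul, ← res_inf s t hx, ← res_smul, ← hy, res_res, res_res]

theorem res_pow_inf (n : ℕ) : res (CohB1.tensorPow L n) (inf_le_right : U ⊓ W ≤ W) (pow (res L (le_top : W ≤ ⊤) s) n) =
    (ores (inf_le_left : U ⊓ W ≤ U) x) ^ n •
      res (CohB1.tensorPow L n) (inf_le_left : U ⊓ W ≤ U) (pow (res L (le_top : U ≤ ⊤) t) n) := by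
  rw [res_pow, res_pow, res_inf s t hx, smul_pow]

include hU hW in
/-- The function of a section of a power. -/
theorem exists_chart (n : ℕ) (e : Γ(CohB1.tensorPow L n, ⊤)) :
    letI := algΓ k X U; letI := algΓ k X W; letI := algΓ k X (U ⊓ W)
    ∃ a ∈ V (rk k X (inf_le_left : U ⊓ W ≤ U)) (rk k X (inf_le_right : U ⊓ W ≤ W)) x n,
      res _ (le_top : U ≤ ⊤) e = a • pow (res L (le_top : U ≤ ⊤) t) n := by
  obtain ⟨a, ha⟩ := (hU.pow n).exists_eq (res _ (le_top : U ≤ ⊤) e)
  obtain ⟨b, hb⟩ := (hW.pow n).exists_eq (res _ (le_top : W ≤ ⊤) e)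
  refine ⟨a, ⟨b, ?_⟩, ha⟩
  change ores _ a = (ores _ x) ^ n * ores _ b
  apply ((hU.pow n).res (inf_le_left : U ⊓ W ≤ U)).ext
  rw [mul_comm, mul_smul, ← res_pow_inf s t hx, ← res_smul, ← res_smul, ← ha, ← hb, res_res, res_res]

variable [IsIntegral X] (hL : PicF.IsInvertible L) (hUW : U ⊔ W = ⊤) (hUn : (U : Set X).Nonempty)

include hU hW hL hUW hUn in
theorem prods_of (n : ℕ)
    (core : letI := algΓ k X U; letI := algΓ k X W; letI := algΓ k X (U ⊓ W)
      ∀ v ∈ V (rk k X (inf_le_left : U ⊓ W ≤ U)) (rk k X (inf_le_right : U ⊓ W ≤ W)) x (n + 1),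
        v ∈ V (rk k X (inf_le_left : U ⊓ W ≤ U)) (rk k X (inf_le_right : U ⊓ W ≤ W)) x n *
          V (rk k X (inf_le_left : U ⊓ W ≤ U)) (rk k X (inf_le_right : U ⊓ W ≤ W)) x 1) :
    prods (CohB1.tensorPow L n) L ⊤ = ⊤ := by
  letI := algΓ k X U
  letI := algΓ k X W
  letI := algΓ k X (U ⊓ W)
  rw [eq_top_iff]
  intro e _
  obtain ⟨a, ha, hae⟩ := exists_chart k s t hU hW hx (n + 1) e
  have key : ∀ a ∈ V (rk k X (inf_le_left : U ⊓ W ≤ U)) (rk k X (inf_le_right : U ⊓ W ≤ W)) x n *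
      V (rk k X (inf_le_left : U ⊓ W ≤ U)) (rk k X (inf_le_right : U ⊓ W ≤ W)) x 1,
      ∃ r ∈ prods (CohB1.tensorPow L n) L ⊤, res (CohB1.tensorMod (CohB1.tensorPow L n) L) (le_top : U ≤ ⊤) r =
        a • tmul (pow (res L (le_top : U ≤ ⊤) t) n) (res L (le_top : U ≤ ⊤) t) := by
    intro a ha
    induction ha using Submodule.mul_induction_on' with
    | mem_mul_mem m hm m' hm' =>
      obtain ⟨b, hb⟩ := hm
      obtain ⟨b', hb'⟩ := hm'
      obtain ⟨r, hr, -⟩ := exists_of_chart (CohB1.tensorPow L n) hUW (res_pow_inf s t hx n) m b hb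
      obtain ⟨r', hr', -⟩ := exists_of_chart L hUW (res_inf s t hx) m' b' (by
        rw [pow_one] at hb'
        exact hb')
      refine ⟨tmul r r', tmul_mem_prods r r', ?_⟩
      rw [res_tmul, hr, hr', smul_tmul, tmul_smul, smul_smul]
    | add m _ m' _ h h' =>
      obtain ⟨r, hr, hrm⟩ := h
      obtain ⟨r', hr', hrm'⟩ := h'
      exact ⟨r + r', add_mem hr hr', by rw [map_add, hrm, hrm', add_smul]⟩
  obtain ⟨r, hr, hra⟩ := key a (core a ha)
  have h1 : e - r = 0 := by
    refine (InvEmb.locEmb_of_isInvertible (isInvertible_tensorPow hL (n + 1))).eq_zero (le_top : U ≤ ⊤) hUn _ ?_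
    change res (CohB1.tensorMod (CohB1.tensorPow L n) L) (le_top : U ≤ ⊤) (e - r) = 0
    rw [map_sub, sub_eq_zero]
    exact hae.trans hra.symm
  rw [sub_eq_zero.1 h1]
  exact hr

end Chart

section Cohomology

variable (k : Type u) [Field k] [X.Over (Spec (CommRingCat.of k))] {L : X.Modules} {U W : X.Opens} (s t : Γ(L, ⊤))
  (hU : IsGen (res L (le_top : U ≤ ⊤) t)) (hW : IsGen (res L (le_top : W ≤ ⊤) s)) {x : Γ(X, U)}
  (hx : res L (le_top : U ≤ ⊤) s = x • res L (le_top : U ≤ ⊤) t) (hUW : U ⊔ W = ⊤)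

include hU hW hx hUW in
/-- Vanishing of `H^1`. -/
theorem exists_add (h1 : Subsingleton (Coh.HH X L 1)) (c : Γ(X, U ⊓ W)) :
    ∃ (a : Γ(X, U)) (b : Γ(X, W)), c = ores (inf_le_left : U ⊓ W ≤ U) a +
      ores (inf_le_left : U ⊓ W ≤ U) x * ores (inf_le_right : U ⊓ W ≤ W) b := by
  obtain ⟨α, β, hαβ⟩ := (OnePoint.connM_eq_zero_iff L hUW
    (c • res L (inf_le_left : U ⊓ W ≤ U) (res L (le_top : U ≤ ⊤) t))).1 (Subsingleton.elim _ _)
  obtain ⟨a, ha⟩ := hU.exists_eq α
  obtain ⟨b, hb⟩ := hW.exists_eq β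
  refine ⟨a, -b, ?_⟩
  apply (hU.res (inf_le_left : U ⊓ W ≤ U)).ext
  change _ = res L _ α - res L _ β at hαβ
  rw [ha, hb, res_smul, res_smul, res_inf s t hx, smul_smul, ← sub_smul] at hαβ
  rw [hαβ, map_neg]
  congr 1
  ring

/-- The connecting map, linear over the base field. -/
noncomputable def connK : letI := algΓ k X (U ⊓ W); Γ(X, U ⊓ W) →ₗ[k] Coh.HH X (Coh.structureModule X) 1 :=
  letI := algΓ k X (U ⊓ W)
  { toFun := fun c => OnePoint.connM (Coh.structureModule X) hUW (ofFun c)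
    map_add' := fun c c' => by rw [map_add, map_add]
    map_smul' := fun a c => OnePoint.connM_smul (Coh.structureModule X) hUW (HZero.gl k X a) (ofFun c) }

theorem ker_connK : letI := algΓ k X U; letI := algΓ k X W; letI := algΓ k X (U ⊓ W)
    LinearMap.ker (connK k hUW) = LinearMap.range (rk k X (inf_le_left : U ⊓ W ≤ U)).toLinearMap ⊔
      LinearMap.range (rk k X (inf_le_right : U ⊓ W ≤ W)).toLinearMap := by
  letI := algΓ k X U
  letI := algΓ k X W
  letI := algΓ k X (U ⊓ W)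
  ext c
  rw [LinearMap.mem_ker, Submodule.mem_sup]
  have key : OnePoint.connM (Coh.structureModule X) hUW (ofFun c) = 0 ↔ ∃ (a : Γ(X, U)) (b : Γ(X, W)),
      c = ores (inf_le_left : U ⊓ W ≤ U) a - ores (inf_le_right : U ⊓ W ≤ W) b :=
    OnePoint.connM_eq_zero_iff (Coh.structureModule X) hUW (ofFun c)
  refine key.trans ?_
  constructor
  · rintro ⟨a, b, hab⟩
    refine ⟨_, ⟨a, rfl⟩, _, ⟨-b, rfl⟩, ?_⟩
    change ores (inf_le_left : U ⊓ W ≤ U) a + ores (inf_le_right : U ⊓ W ≤ W) (-b) = c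
    rw [map_neg, ← sub_eq_add_neg]
    exact hab.symm
  · rintro ⟨_, ⟨a, rfl⟩, _, ⟨b, rfl⟩, hab⟩
    refine ⟨a, -b, ?_⟩
    rw [map_neg, sub_neg_eq_add]
    exact hab.symm

include hUW in
theorem finite_quot [Module.Finite k (Coh.HH X (Coh.structureModule X) 1)] :
    letI := algΓ k X U; letI := algΓ k X W; letI := algΓ k X (U ⊓ W)
    Module.Finite k (Γ(X, U ⊓ W) ⧸ (LinearMap.range (rk k X (inf_le_left : U ⊓ W ≤ U)).toLinearMap ⊔
      LinearMap.range (rk k X (inf_le_right : U ⊓ W ≤ W)).toLinearMap)) ∧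
    Module.finrank k (Γ(X, U ⊓ W) ⧸ (LinearMap.range (rk k X (inf_le_left : U ⊓ W ≤ U)).toLinearMap ⊔
      LinearMap.range (rk k X (inf_le_right : U ⊓ W ≤ W)).toLinearMap)) ≤ Curv2.genus k X := by
  letI := algΓ k X U
  letI := algΓ k X W
  letI := algΓ k X (U ⊓ W)
  rw [← ker_connK k hUW]
  have e := (connK k hUW).quotKerEquivRange
  refine ⟨Module.Finite.equiv e.symm, ?_⟩
  rw [e.finrank_eq]
  exact Submodule.finrank_le _

include hU in
/-- Functions modulo the function of a section. -/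
theorem finite_quot_span [IsIntegral X] [IsProper (X ↘ (Spec (CommRingCat.of k)))] (hdim : topologicalKrullDim X ≤ 1)
    (hL : PicF.IsInvertible L) (r : Γ(L, ⊤)) (w : Γ(X, U)) (hw : w ≠ 0)
    (hr : res L (le_top : U ≤ ⊤) r = w • res L (le_top : U ≤ ⊤) t) :
    letI := algΓ k X U
    Module.Finite k (Γ(X, U) ⧸ Ideal.span {w}) := by
  letI := algΓ k X U
  have hN := CurveRR.isNoetherian_of_proper k X
  let σ : Coh.structureModule X ⟶ L := Pairing.secHom L r
  have hr0 : r ≠ 0 := by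
    rintro rfl
    rw [map_zero] at hr
    apply hw
    apply hU.ext
    rw [zero_smul, ← hr]
  have hσ : σ ≠ 0 := Pairing.secHom_ne_zero hr0
  have hemb := InvEmb.locEmb_of_isInvertible hL
  have hm : Mono σ := RankOne.mono_of_ne_zero hemb σ hσ
  let T := cokernel σ
  let q : L ⟶ T := cokernel.π σ
  have hT : RankOne.IsTors T := RankOne.isTors_of_epi hemb σ hσ q (cokernel.condition σ)
  have hfl := hT.isFlasque hdim
  have hTc : Coh.IsCoh T := PerfA.CohSerre.isCoh_cokernel σ (UnitCoh.isCoh_structureModule X).1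
    (VarietyA.CurveFin.isCoh_of_isInvertible hL)
  have hTf : Module.Finite k (Coh.HH X T 0) := S0002.result k X _ hTc 0
  have hsurj : Function.Surjective (res T (le_top : U ≤ ⊤)) := by
    have h1 := hfl.epi (homOfLE (le_top : U ≤ ⊤)).op
    exact (AddCommGrpCat.epi_iff_surjective _).1 h1
  letI m1 : Module k Γ(T, ⊤) := HZero.moduleΓ k T
  letI m2 : Module k Γ(T, U) := Module.compHom Γ(T, U) (algebraMap k Γ(X, U))
  have hsc : IsScalarTower k Γ(X, U) Γ(T, U) := IsScalarTower.of_algebraMap_smul fun _ _ => rfl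
  let ρ : Γ(T, ⊤) →ₗ[k] Γ(T, U) :=
    { res T (le_top : U ≤ ⊤) with
      map_smul' := fun c m => res_smul T (le_top : U ≤ ⊤) (HZero.gl k X c) m }
  have f1 : Module.Finite k Γ(T, ⊤) := Module.Finite.equiv (HZero.equivLin k T)
  have f2 : Module.Finite k Γ(T, U) := Module.Finite.of_surjective ρ hsurj
  let ψ : Γ(X, U) →ₗ[Γ(X, U)] Γ(T, U) :=
    LinearMap.toSpanSingleton Γ(X, U) Γ(T, U) (q.app U (res L (le_top : U ≤ ⊤) t))
  have hψ : ∀ a, ψ a = q.app U (a • res L (le_top : U ≤ ⊤) t) := fun a =>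
    (Scheme.Modules.Hom.app_smul q a _).symm
  have hle : Ideal.span {w} ≤ LinearMap.ker ψ := by
    rw [Ideal.span_singleton_le_iff_mem, LinearMap.mem_ker, hψ, ← hr]
    have h1 : σ.app U (one U) = res L (le_top : U ≤ ⊤) r := by
      refine (Pairing.secHom_app L r U 1).trans ?_
      exact one_smul _ _
    rw [← h1]
    have h2 : (σ ≫ q).app U (one U) = 0 := by
      rw [cokernel.condition]
      rfl
    exact h2
  have hge : LinearMap.ker ψ ≤ Ideal.span {w} := by
    intro a ha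
    rw [LinearMap.mem_ker, hψ] at ha
    obtain ⟨c, hc⟩ := PerfB.ModExact.exists_app_of_isLimit σ q (cokernel.condition σ)
      (Abelian.monoIsKernelOfCokernel (CokernelCofork.ofπ (cokernel.π σ) (cokernel.condition σ))
        (cokernelIsCokernel σ)) U _ ha
    have h1 : σ.app U c = (show Γ(X, U) from c) • res L (le_top : U ≤ ⊤) r := Pairing.secHom_app L r U c
    rw [hc, hr, smul_smul] at h1
    have h2 := hU.ext h1
    rw [h2]
    exact Ideal.mul_mem_left _ _ (Ideal.mem_span_singleton_self w)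
  let ψ' : (Γ(X, U) ⧸ Ideal.span {w}) →ₗ[Γ(X, U)] Γ(T, U) := Submodule.liftQ _ ψ hle
  have hinj : Function.Injective ψ' := by
    rw [← LinearMap.ker_eq_bot]
    exact Submodule.ker_liftQ_eq_bot _ _ _ hge
  exact Module.Finite.of_injective (ψ'.restrictScalars k) hinj

include hU hW hx hUW in
/-- The sections of `L` as functions on a chart. -/
theorem finrank_V_one [IsIntegral X] (hL : PicF.IsInvertible L) (hUn : (U : Set X).Nonempty)
    [Module.Finite k (Coh.HH X L 0)] :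
    letI := algΓ k X U; letI := algΓ k X W; letI := algΓ k X (U ⊓ W)
    Module.Finite k (V (rk k X (inf_le_left : U ⊓ W ≤ U)) (rk k X (inf_le_right : U ⊓ W ≤ W)) x 1) ∧
    Module.finrank k (V (rk k X (inf_le_left : U ⊓ W ≤ U)) (rk k X (inf_le_right : U ⊓ W ≤ W)) x 1) =
      Module.finrank k (Coh.HH X L 0) := by
  let _ := algΓ k X U
  let _ := algΓ k X W
  let _ := algΓ k X (U ⊓ W)
  let _ : Module k Γ(L, ⊤) := HZero.moduleΓ k L
  let E : Γ(X, U) ≃ₗ[Γ(X, U)] Γ(L, U) :=
    LinearEquiv.ofBijective (LinearMap.toSpanSingleton Γ(X, U) Γ(L, U) (res L (le_top : U ≤ ⊤) t)) hU.bijective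
  let Θ : Γ(L, ⊤) →ₗ[k] Γ(X, U) :=
    { toFun := fun r => E.symm (res L (le_top : U ≤ ⊤) r)
      map_add' := fun r r' => by rw [map_add, map_add]
      map_smul' := fun c r => by
        have h1 : res L (le_top : U ≤ ⊤) (c • r) = (algebraMap k Γ(X, U) c) • res L (le_top : U ≤ ⊤) r :=
          res_smul L (le_top : U ≤ ⊤) (HZero.gl k X c) r
        rw [h1, map_smul]
        exact (Algebra.smul_def c _).symm }
  have hΘ : ∀ r, res L (le_top : U ≤ ⊤) r = Θ r • res L (le_top : U ≤ ⊤) t := fun r =>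
    (E.apply_symm_apply (res L (le_top : U ≤ ⊤) r)).symm
  have hinj : Function.Injective Θ := by
    rw [injective_iff_map_eq_zero]
    intro r hr
    refine (InvEmb.locEmb_of_isInvertible hL).eq_zero (le_top : U ≤ ⊤) hUn _ ?_
    exact (hΘ r).trans (by rw [hr, zero_smul])
  have hrange : LinearMap.range Θ =
      V (rk k X (inf_le_left : U ⊓ W ≤ U)) (rk k X (inf_le_right : U ⊓ W ≤ W)) x 1 := by
    apply le_antisymm
    · rintro _ ⟨r, rfl⟩
      obtain ⟨b, hb⟩ := hW.exists_eq (res L (le_top : W ≤ ⊤) r)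
      refine ⟨b, ?_⟩
      rw [pow_one]
      change ores (inf_le_left : U ⊓ W ≤ U) (Θ r) = ores (inf_le_left : U ⊓ W ≤ U) x * ores (inf_le_right : U ⊓ W ≤ W) b
      apply (hU.res (inf_le_left : U ⊓ W ≤ U)).ext
      rw [mul_comm, mul_smul, ← res_inf s t hx, ← res_smul, ← res_smul, ← hΘ, ← hb, res_res, res_res]
    · rintro a ⟨b, hb⟩
      obtain ⟨r, hr, -⟩ := exists_of_chart L hUW (res_inf s t hx) a b (by
        rw [pow_one] at hb
        exact hb)
      refine ⟨r, ?_⟩
      apply hU.ext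
      rw [← hΘ, hr]
  have f1 : Module.Finite k Γ(L, ⊤) := Module.Finite.equiv (HZero.equivLin k L)
  rw [← hrange]
  refine ⟨inferInstance, ?_⟩
  rw [← (LinearEquiv.ofInjective Θ hinj).finrank_eq, ← (HZero.equivLin k L).finrank_eq]

end Cohomology

section Main

open Groth.Agent.Curves.K327

/-- Two sections without common zeros, both nonzero. -/
theorem exists_two (k : Type u) [Field k] [Infinite k] [X.Over (Spec (CommRingCat.of k))] [IsIntegral X] [IsNoetherian X]
    (hdim : topologicalKrullDim X ≤ 1) {L : X.Modules} (hL : PicF.IsInvertible L)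
    (hgg : Curv2.IsGloballyGenerated L) : ∃ (s t : Coh.structureModule X ⟶ L),
      CohB1.genLocus L t ⊔ CohB1.genLocus L s = ⊤ ∧ (CohB1.genLocus L t : Set X).Nonempty ∧
        (CohB1.genLocus L s : Set X).Nonempty := by
  obtain ⟨s, hs⟩ := TwoSec.exists_section (k := k) hL hgg {ξ | SubH1.IsGen ξ} (SubClosed.finite_isGen X)
  obtain ⟨t, ht⟩ := TwoSec.exists_section (k := k) hL hgg ({x : X | x ∉ CohB1.genLocus L s} ∪ {ξ | SubH1.IsGen ξ})
    ((TwoSec.finite_compl hdim s hs).union (SubClosed.finite_isGen X))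
  have hη : SubH1.IsGen (genericPoint X) := fun y hy => (hy.antisymm (genericPoint_specializes y)).eq
  refine ⟨s, t, ?_, ⟨genericPoint X, ht _ (Or.inr hη)⟩, ⟨genericPoint X, hs _ hη⟩⟩
  rw [eq_top_iff]
  intro x _
  by_cases hx : x ∈ CohB1.genLocus L s
  · exact Or.inr hx
  · exact Or.inl (ht x (Or.inl hx))

/-- Normal generation in degree `≥ 2g + 1`. -/
theorem prods_eq_top (k : Type u) [Field k] [IsAlgClosed k] [X.Over (Spec (CommRingCat.of k))] [IsIntegral X]
    [IsProper (X ↘ (Spec (CommRingCat.of k)))] (hdim : topologicalKrullDim X = 1) {L : X.Modules}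
    (hL : PicF.IsInvertible L) (hdeg : 2 * (Curv2.genus k X : ℤ) + 1 ≤ Curv2.deg k X L 1) (n : ℕ) (hn : 1 ≤ n) :
    prods (CohB1.tensorPow L n) L ⊤ = ⊤ := by
  have hN := CurveRR.isNoetherian_of_proper k X
  have h0 : Module.finrank k (Coh.HH X (Coh.structureModule X) 0) = 1 := VarietyA.CurveFin.finrank_h0_structure k X
  have hgg : Curv2.IsGloballyGenerated L := S1533.result k X hdim h0 L hL (by omega)
  have hH1 : Subsingleton (Coh.HH X L 1) := K333.FibreVA.subsingleton_h1 k X hdim h0 L hL (by omega)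
  obtain ⟨s₀, t₀, hUW, hUn, hWn⟩ := exists_two k hdim.le hL hgg
  have hU : IsGen (res L (le_top : CohB1.genLocus L t₀ ≤ ⊤) (sec t₀ ⊤)) := by
    rw [res_sec]
    exact (le_genLocus_iff t₀ _).mp le_rfl
  have hW : IsGen (res L (le_top : CohB1.genLocus L s₀ ≤ ⊤) (sec s₀ ⊤)) := by
    rw [res_sec]
    exact (le_genLocus_iff s₀ _).mp le_rfl
  obtain ⟨x, hx⟩ := hU.exists_eq (res L (le_top : CohB1.genLocus L t₀ ≤ ⊤) (sec s₀ ⊤))
  obtain ⟨y, hy⟩ := hW.exists_eq (res L (le_top : CohB1.genLocus L s₀ ≤ ⊤) (sec t₀ ⊤))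
  refine prods_of k (sec s₀ ⊤) (sec t₀ ⊤) hU hW hx hL hUW hUn n ?_
  let _ := algΓ k X (CohB1.genLocus L t₀)
  let _ := algΓ k X (CohB1.genLocus L s₀)
  let _ := algΓ k X (CohB1.genLocus L t₀ ⊓ CohB1.genLocus L s₀)
  intro v hv
  have hxy : rk k X (inf_le_left : CohB1.genLocus L t₀ ⊓ CohB1.genLocus L s₀ ≤ _) x *
      rk k X (inf_le_right : CohB1.genLocus L t₀ ⊓ CohB1.genLocus L s₀ ≤ _) y = 1 :=
    mul_eq_one (sec s₀ ⊤) (sec t₀ ⊤) hU hx hy
  have h1 : ∀ c, ∃ a b, c = rk k X (inf_le_left : CohB1.genLocus L t₀ ⊓ CohB1.genLocus L s₀ ≤ _) a +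
      rk k X (inf_le_left : CohB1.genLocus L t₀ ⊓ CohB1.genLocus L s₀ ≤ _) x *
        rk k X (inf_le_right : CohB1.genLocus L t₀ ⊓ CohB1.genLocus L s₀ ≤ _) b :=
    exists_add (sec s₀ ⊤) (sec t₀ ⊤) hU hW hx hUW hH1
  rcases Nat.lt_or_ge 1 n with hn2 | hn1
  · obtain ⟨v₁, hv₁, v₂, hv₂, rfl⟩ := exists_eq_add hxy h1 hn2 hv
    refine add_mem ?_ ?_
    · have h2 := Submodule.mul_mem_mul hv₁ (mono hxy (Nat.zero_le 1) (one_mem_V _ _ x))
      rwa [mul_one] at h2
    · rw [mul_comm x v₂]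
      exact Submodule.mul_mem_mul hv₂ (x_mem _ _ x)
  · obtain rfl : n = 1 := le_antisymm hn1 hn
    have hf0 := VarietyA.CurveFin.finite_HH k X hL 0
    have hfO := VarietyA.CurveFin.finite_HH_structure k X 1
    obtain ⟨f1, f2⟩ := finrank_V_one k (sec s₀ ⊤) (sec t₀ ⊤) hU hW hx hUW hL hUn
    obtain ⟨f3, f4⟩ := finite_quot k hUW
    have hd := K334.Clifford.deg_eq' k hdim.le L
    rw [Module.finrank_zero_of_subsingleton (M := Coh.HH X L 1)] at hd
    refine mem_mul_of_mem hxy h1 ?_ (Curv2.genus k X) f4 ?_ ?_ hv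
    · exact RankOne.resO_injective _ (RankOne.inf_nonempty hUn hWn)
    · rw [f2]
      push_cast at hd
      omega
    · rintro w ⟨b, hb⟩ hw0
      obtain ⟨r, hr, -⟩ := exists_of_chart L hUW (res_inf (sec s₀ ⊤) (sec t₀ ⊤) hx) w b (by
        rw [pow_one] at hb
        exact hb)
      exact finite_quot_span k (sec t₀ ⊤) hU hdim.le hL r w hw0 hr

end Main

end K386.NGCurve
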