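import Groth.Agent.Curves.K386.NGField
import Groth.Agent.Curves.K386.FibDeg
import Groth.Agent.Ega2.VeryAmpleAmple

/-!
# Normal generation for relative curves
-/

set_option autoImplicit false
universe u
open CategoryTheory CategoryTheory.Limits AlgebraicGeometry Opposite TopologicalSpace

namespace K386.NGFam

open Groth.Agent K333.Fam K946.NormGen

variable {X S : Scheme.{u}} (f : X ⟶ S) [IsProper f] [Smooth f] [GeometricallyConnected f]
    (hdim : ∀ s : S, topologicalKrullDim ↥(f.fiber s) = 1)
    (g : ℕ) (hgen : ∀ s : S, letI : (f.fiber s).Over (Spec (S.residueField s)) := ⟨f.fiberToSpecResidueField s⟩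
      Curv2.genus (S.residueField s) (f.fiber s) = g)
    (L : X.Modules) (hL : PicF.IsInvertible L)
    (hdeg : ∀ s : S, letI : (f.fiber s).Over (Spec (S.residueField s)) := ⟨f.fiberToSpecResidueField s⟩
      2 * (g : ℤ) + 1 ≤ Curv2.deg (S.residueField s) (f.fiber s) (CohIII.fiberMod f L s) 1)

include hdim hgen hL hdeg

theorem prods_fiber (n : ℕ) (hn : 1 ≤ n) (s : S) :
    prods (CohIII.fiberMod f (CohB1.tensorPow L n) s) (CohIII.fiberMod f L s) ⊤ = ⊤ := by
  let _ : (f.fiber s).Over (Spec (CommRingCat.of (S.residueField s))) := ⟨f.fiberToSpecResidueField s⟩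
  have H := isPullback_fiber f s
  have h1 : IsProper ((f.fiber s) ↘ (Spec (CommRingCat.of (S.residueField s)))) :=
    MorphismProperty.of_isPullback H inferInstance
  have h2 : Smooth ((f.fiber s) ↘ (Spec (CommRingCat.of (S.residueField s)))) :=
    MorphismProperty.of_isPullback H inferInstance
  have h3 : GeometricallyConnected ((f.fiber s) ↘ (Spec (CommRingCat.of (S.residueField s)))) :=
    MorphismProperty.of_isPullback H inferInstance
  have h4 : GeometricallyIntegral ((f.fiber s) ↘ (Spec (CommRingCat.of (S.residueField s)))) :=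
    K333.FibreVA.geometricallyIntegral _
  have h5 : Curv2.genus (S.residueField s) (f.fiber s) = g := hgen s
  obtain ⟨e⟩ := Ega3B.PullTensor.nonempty_pullPowIso (f.fiberι s) hL n
  exact NGField.prods_iso e (Iso.refl _) (NGField.prods_eq_top (S.residueField s) (hdim s)
    (Fdesc.LocGen.isInvertible_pullback (f.fiberι s) hL) (by rw [h5]; exact hdeg s) n hn)

theorem prods_eq_top [IsLocallyNoetherian S] [IsAffine S] (n : ℕ) (hn : 1 ≤ n) :
    prods (CohB1.tensorPow L n) L (f ⁻¹ᵁ ⊤) = ⊤ :=
  normgen f (Fdesc.LocGen.isInvertible_tensorPow hL n) hL (isAffineOpen_top S)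
    (fun s => FibDeg.subsingleton_fiberH_pow f hdim g hgen L hL hdeg s n hn)
    (fun s => FibDeg.subsingleton_fiberH f hdim g hgen L hL hdeg s)
    (fun s => FibDeg.subsingleton_fiberH_pow f hdim g hgen L hL hdeg s (n + 1) (Nat.le_add_left 1 n))
    (fun s => prods_fiber f hdim g hgen L hL hdeg n hn s)

end K386.NGFam
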