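import Groth.Agent.Curves.K386.NGCurve
import Groth.Agent.CurvesB.VABaseChange
import Groth.Agent.Ega3B.PullTensor

/-!
# Normal generation on a curve over a field

* `prods_iso`, `prods_desc`: the products of sections and isomorphisms, extension of the base field;
* `prods_eq_top`: `X` proper and geometrically integral of dimension one over a field, `L` invertible of degree
  `≥ 2g + 1`: the sections of `L^(n+1)` are sums of products of sections of `L^n` and `L` for `n ≥ 1`.
-/

set_option autoImplicit false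
universe u
open CategoryTheory CategoryTheory.Limits AlgebraicGeometry Opposite TopologicalSpace

namespace K386.NGField

open Groth.Agent Groth.Agent.Fdesc.LocGen Groth.Agent.CurvesB K946.NormGen Groth.Agent.Ega2

section Iso

variable {X : Scheme.{u}} {M M' L L' : X.Modules}

theorem prods_map (φ : M ⟶ M') (ψ : L ⟶ L') {U : X.Opens} {z : Γ(CohB1.tensorMod M L, U)} (hz : z ∈ prods M L U) :
    (Tens.mapT φ ψ).app U z ∈ prods M' L' U := by
  induction hz using AddSubgroup.closure_induction with
  | mem z h =>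
    obtain ⟨a, b, rfl⟩ := h
    have h1 : (Tens.mapT φ ψ).app U (tmul a b) = tmul (φ.app U a) (ψ.app U b) := Tens.mapT_tmul φ ψ a b
    rw [h1]
    exact tmul_mem_prods _ _
  | zero =>
    rw [map_zero]
    exact zero_mem _
  | add t t' _ _ h h' =>
    rw [map_add]
    exact add_mem h h'
  | neg t _ h =>
    rw [map_neg]
    exact neg_mem h

theorem prods_iso (e : M ≅ M') (e' : L ≅ L') {U : X.Opens} (h : prods M' L' U = ⊤) : prods M L U = ⊤ := by
  rw [eq_top_iff]
  intro z _
  have h1 : (Tens.mapT e.hom e'.hom).app U z ∈ prods M' L' U := by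
    rw [h]
    trivial
  have h2 := prods_map e.inv e'.inv h1
  have h3 : Tens.mapT e.hom e'.hom ≫ Tens.mapT e.inv e'.inv = 𝟙 _ := by
    rw [← Tens.mapT_comp, e.hom_inv_id, e'.hom_inv_id, Tens.mapT_id]
  have h4 : (Tens.mapT e.inv e'.inv).app U ((Tens.mapT e.hom e'.hom).app U z) = z := congr(($h3).app U z)
  rwa [h4] at h2

end Iso

section Zero

variable {X : Scheme.{u}} {M L : X.Modules} {U : X.Opens}

theorem zero_tmul (b : Γ(L, U)) : tmul (0 : Γ(M, U)) b = 0 := by
  have h := smul_tmul (0 : Γ(X, U)) (0 : Γ(M, U)) b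
  rwa [zero_smul, zero_smul] at h

theorem tmul_zero (a : Γ(M, U)) : tmul a (0 : Γ(L, U)) = 0 := by
  have h := tmul_smul (0 : Γ(X, U)) a (0 : Γ(L, U))
  rwa [zero_smul, zero_smul] at h

end Zero

section Desc

variable {k : Type u} [Field k] {X : Scheme.{u}} [X.Over (Spec (CommRingCat.of k))]
  {K : Type u} [Field K] [Algebra k K] {X' : Scheme.{u}} [X'.Over (Spec (CommRingCat.of K))] {p : X' ⟶ X}
  [IsProper (X ↘ Spec (CommRingCat.of k))]
  (hpb : IsPullback p (X' ↘ Spec (CommRingCat.of K)) (X ↘ Spec (CommRingCat.of k))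
      (Spec.map (CommRingCat.ofHom (algebraMap k K))))

include hpb

/-- Pulled back sections generate. -/
theorem span_eq_top {M : X.Modules} (hM : PicF.IsInvertible M) :
    letI := HZero.moduleΓ K ((Scheme.Modules.pullback p).obj M)
    Submodule.span K (Set.range (VarietyB.PullSec.sec p M (U := ⊤) (V := ⊤) le_top)) = ⊤ := by
  letI := HZero.moduleΓ K ((Scheme.Modules.pullback p).obj M)
  letI := HZero.moduleΓ k M
  have hN := CurveRR.isNoetherian_of_proper k X
  have hc : Coh.IsCoh M := VarietyA.CurveFin.isCoh_of_isInvertible hM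
  have f0 : Module.Finite k (Coh.HH X M 0) := S0002.result k X _ hc 0
  have f1 : Module.Finite k Γ(M, ⊤) := Module.Finite.equiv (HZero.equivLin k M)
  let b := Module.finBasis k Γ(M, ⊤)
  rw [eq_top_iff]
  intro y _
  obtain ⟨c, hc⟩ := VABaseChange.exists_coeff hpb M hc.1 b
    (fun x => ⟨fun i => b.repr x i, (b.sum_repr x).symm⟩) y
  rw [hc]
  exact Submodule.sum_mem _ fun i _ => Submodule.smul_mem _ (c i) (Submodule.subset_span ⟨b i, rfl⟩)

theorem prods_desc {M L : X.Modules} (hM : PicF.IsInvertible M) (hL : PicF.IsInvertible L)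
    (h : prods ((Scheme.Modules.pullback p).obj M) ((Scheme.Modules.pullback p).obj L) ⊤ = ⊤) :
    prods M L ⊤ = ⊤ := by
  have hN := CurveRR.isNoetherian_of_proper k X
  have hML := isInvertible_tensorMod hM hL
  have hc : Coh.IsCoh (CohB1.tensorMod M L) := VarietyA.CurveFin.isCoh_of_isInvertible hML
  letI := HZero.moduleΓ k (CohB1.tensorMod M L)
  letI := HZero.moduleΓ K ((Scheme.Modules.pullback p).obj (CohB1.tensorMod M L))
  letI := HZero.moduleΓ K ((Scheme.Modules.pullback p).obj M)
  letI := HZero.moduleΓ K ((Scheme.Modules.pullback p).obj L)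
  have f0 : Module.Finite k (Coh.HH X (CohB1.tensorMod M L) 0) := S0002.result k X _ hc 0
  have f1 : Module.Finite k Γ(CohB1.tensorMod M L, ⊤) := Module.Finite.equiv (HZero.equivLin k (CohB1.tensorMod M L))
  let P : Submodule k Γ(CohB1.tensorMod M L, ⊤) :=
    { carrier := prods M L ⊤
      add_mem' := fun h h' => (prods M L ⊤).add_mem h h'
      zero_mem' := (prods M L ⊤).zero_mem
      smul_mem' := fun r t h => smul_mem_prods (HZero.gl k X r) h }
  let sc := VarietyB.PullSec.sec p (CohB1.tensorMod M L) (U := ⊤) (V := ⊤) le_top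
  let Q : Submodule K Γ((Scheme.Modules.pullback p).obj (CohB1.tensorMod M L), ⊤) :=
    Submodule.span K (Set.range fun z : P => sc z)
  -- dimension of `Q`
  let b := Module.finBasis k P
  have hsc : ∀ (c : k) (z : Γ(CohB1.tensorMod M L, ⊤)), sc (c • z) = algebraMap k K c • sc z := by
    intro c z
    refine (VarietyB.PullSec.sec_smul p _ le_top (HZero.gl k X c) z).trans ?_
    rw [VABaseChange.appTop_gl hpb]
    rfl
  have hQ1 : Q ≤ Submodule.span K (Set.range fun i => sc (b i)) := by
    rw [Submodule.span_le]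
    rintro _ ⟨z, rfl⟩
    have h1 : (z : Γ(CohB1.tensorMod M L, ⊤)) = ∑ i, b.repr z i • (b i : Γ(CohB1.tensorMod M L, ⊤)) := by
      have h2 := congrArg P.subtype (b.sum_repr z)
      rw [map_sum] at h2
      exact h2.symm
    change sc z ∈ _
    rw [h1, map_sum]
    refine Submodule.sum_mem _ fun i _ => ?_
    rw [hsc]
    exact Submodule.smul_mem _ _ (Submodule.subset_span ⟨i, rfl⟩)
  -- the products generate
  have hiso : IsIso (Grpsch.PicGrp.pullTensor p M L) := Grpsch.PicGrp.isIso_pullTensor _ hM hL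
  let θ := (asIso (Grpsch.PicGrp.pullTensor p M L))
  have hθ : ∀ (m : Γ(M, ⊤)) (l : Γ(L, ⊤)), θ.hom.app ⊤ (sc (tmul m l)) =
      tmul (VarietyB.PullSec.sec p M (U := ⊤) (V := ⊤) le_top m) (VarietyB.PullSec.sec p L (U := ⊤) (V := ⊤) le_top l) := by
    intro m l
    have h1 := Grpsch.PicGrp.pullTensor_app p m l
    have h2 := congrArg (res _ (le_top : (⊤ : X'.Opens) ≤ p ⁻¹ᵁ ⊤)) h1
    have h3 := res_tmul (le_top : (⊤ : X'.Opens) ≤ p ⁻¹ᵁ ⊤) (pullSec p m) (pullSec p l)
    have h4 := app_res (Grpsch.PicGrp.pullTensor p M L) (le_top : (⊤ : X'.Opens) ≤ p ⁻¹ᵁ ⊤) (pullSec p (tmul m l))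
    exact h4.trans (h2.trans h3)
  have hθs : ∀ (c : K) (z), θ.inv.app ⊤ (HZero.gl K X' c • z) = c • θ.inv.app ⊤ z := fun c z =>
    Scheme.Modules.Hom.app_smul θ.inv (HZero.gl K X' c) z
  have hθi : ∀ z, θ.inv.app ⊤ (θ.hom.app ⊤ z) = z := fun z => congr(($(θ.hom_inv_id)).app ⊤ z)
  have q1 : ∀ (m : Γ(M, ⊤)) (l : Γ(L, ⊤)), θ.inv.app ⊤ (tmul
      (VarietyB.PullSec.sec p M (U := ⊤) (V := ⊤) le_top m)
      (VarietyB.PullSec.sec p L (U := ⊤) (V := ⊤) le_top l)) ∈ Q := by
    intro m l
    rw [← hθ, hθi]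
    exact Submodule.subset_span ⟨⟨tmul m l, tmul_mem_prods m l⟩, rfl⟩
  have q2 : ∀ (a : Γ((Scheme.Modules.pullback p).obj M, ⊤)) (l : Γ(L, ⊤)), θ.inv.app ⊤ (tmul a
      (VarietyB.PullSec.sec p L (U := ⊤) (V := ⊤) le_top l)) ∈ Q := by
    intro a l
    have ha : a ∈ Submodule.span K (Set.range (VarietyB.PullSec.sec p M (U := ⊤) (V := ⊤) le_top)) := by
      rw [span_eq_top hpb hM]
      trivial
    induction ha using Submodule.span_induction with
    | mem a h =>
      obtain ⟨m, rfl⟩ := h
      exact q1 m l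
    | zero =>
      rw [zero_tmul, map_zero]
      exact Submodule.zero_mem _
    | add a a' _ _ h h' =>
      rw [add_tmul, map_add]
      exact Submodule.add_mem _ h h'
    | smul c a _ h =>
      change θ.inv.app ⊤ (tmul (HZero.gl K X' c • a) _) ∈ Q
      rw [smul_tmul, hθs]
      exact Q.smul_mem c h
  have q3 : ∀ (a : Γ((Scheme.Modules.pullback p).obj M, ⊤)) (b : Γ((Scheme.Modules.pullback p).obj L, ⊤)),
      θ.inv.app ⊤ (tmul a b) ∈ Q := by
    intro a b
    have hb : b ∈ Submodule.span K (Set.range (VarietyB.PullSec.sec p L (U := ⊤) (V := ⊤) le_top)) := by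
      rw [span_eq_top hpb hL]
      trivial
    induction hb using Submodule.span_induction with
    | mem b h =>
      obtain ⟨m, rfl⟩ := h
      exact q2 a m
    | zero =>
      rw [tmul_zero, map_zero]
      exact Submodule.zero_mem _
    | add b b' _ _ h h' =>
      rw [tmul_add, map_add]
      exact Submodule.add_mem _ h h'
    | smul c b _ h =>
      change θ.inv.app ⊤ (tmul a (HZero.gl K X' c • b)) ∈ Q
      rw [tmul_smul, hθs]
      exact Q.smul_mem c h
  have hQ : Q = ⊤ := by
    rw [eq_top_iff]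
    intro y _
    rw [← hθi y]
    have hy : θ.hom.app ⊤ y ∈ prods ((Scheme.Modules.pullback p).obj M) ((Scheme.Modules.pullback p).obj L) ⊤ := by
      rw [h]
      trivial
    generalize θ.hom.app ⊤ y = y' at hy
    induction hy using AddSubgroup.closure_induction with
    | mem z h =>
      obtain ⟨a, b, rfl⟩ := h
      exact q3 a b
    | zero =>
      rw [map_zero]
      exact Submodule.zero_mem _
    | add t t' _ _ h h' =>
      rw [map_add]
      exact Submodule.add_mem _ h h'
    | neg t _ h =>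
      rw [map_neg]
      exact Submodule.neg_mem _ h
  have d1 : Module.finrank K Γ((Scheme.Modules.pullback p).obj (CohB1.tensorMod M L), ⊤) ≤ Module.finrank k P := by
    rw [hQ] at hQ1
    have h1 := finrank_range_le_card (R := K) (fun i => sc (b i))
    rw [Set.finrank, top_le_iff.1 hQ1, finrank_top, Fintype.card_fin] at h1
    exact h1
  have d2 : Module.finrank K Γ((Scheme.Modules.pullback p).obj (CohB1.tensorMod M L), ⊤) =
      Module.finrank k Γ(CohB1.tensorMod M L, ⊤) := by
    rw [← (HZero.equivLin K ((Scheme.Modules.pullback p).obj (CohB1.tensorMod M L))).finrank_eq,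
      ← (HZero.equivLin k (CohB1.tensorMod M L)).finrank_eq]
    exact VABaseChange.finrank_eq hpb _ hc.1 0
  have hP : P = ⊤ := Submodule.eq_top_of_finrank_eq (le_antisymm (Submodule.finrank_le P) (d2 ▸ d1))
  rw [eq_top_iff]
  intro z _
  have : z ∈ P := by rw [hP]; trivial
  exact this

end Desc

section Main

variable (k : Type u) [Field k] {X : Scheme.{u}} [X.Over (Spec (CommRingCat.of k))]
  [IsProper (X ↘ (Spec (CommRingCat.of k)))] [GeometricallyIntegral (X ↘ (Spec (CommRingCat.of k)))]

/-- Normal generation in degree `≥ 2g + 1`. -/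
theorem prods_eq_top (hdim : topologicalKrullDim X = 1) {L : X.Modules}
    (hL : PicF.IsInvertible L) (hdeg : 2 * (Curv2.genus k X : ℤ) + 1 ≤ Curv2.deg k X L 1) (n : ℕ) (hn : 1 ≤ n) :
    prods (CohB1.tensorPow L n) L ⊤ = ⊤ := by
  let K := AlgebraicClosure k
  letI := VABaseChange.overBc k X K
  have H := VABaseChange.isPullback_bc k X K
  have hprop : IsProper ((Curv2.bc k X K) ↘ Spec (CommRingCat.of K)) := VABaseChange.isProper H
  have hint : IsIntegral (Curv2.bc k X K) := VABaseChange.isIntegral H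
  have hdim' : topologicalKrullDim (Curv2.bc k X K) = 1 :=
    (VABaseChange.topologicalKrullDim_eq H).trans hdim
  have hM : PicF.IsInvertible ((Scheme.Modules.pullback (Curv2.bcFst k X K)).obj L) := isInvertible_pullback _ hL
  have hN := CurveRR.isNoetherian_of_proper k X
  refine prods_desc H (isInvertible_tensorPow hL n) hL ?_
  obtain ⟨e⟩ := Ega3B.PullTensor.nonempty_pullPowIso (Curv2.bcFst k X K) hL n
  refine prods_iso e (Iso.refl _) (NGCurve.prods_eq_top K hdim' hM ?_ n hn)
  rw [VABaseChange.genus_eq H, VABaseChange.deg_eq H L (VarietyA.CurveFin.isCoh_of_isInvertible hL).1 1]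
  exact hdeg

end Main

end K386.NGField
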