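import Groth.Agent.Mor.K386.VATw
import Groth.Agent.EGA2.K42.VACompB
import Groth.Agent.Mor.K386.VAPn
import Groth.Agent.Ega2.TensMon

/-!
# Normally generated ample modules are very ample

* `himm_of_away`: `HImm` is local for the basic opens of the subring;
* `exists_mem_nv_of_closure`: if a sum does not vanish at a point then some term does not;
* `at_of_normallyGenerated`: `L` invertible, `At` for a power `L^(n+1)`, `n ≥ 1`, and the sections of the higher powers
  over `f⁻¹ U` are sums of products: `At` for `L`.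
-/

set_option autoImplicit false
universe u
open CategoryTheory CategoryTheory.Limits AlgebraicGeometry TopologicalSpace Opposite
open Groth.Agent.Fdesc.LocGen Groth.Agent.Ega2.Nv Groth.Agent.Ega2 Groth.Agent.Ega2.Ample
open K43.HomImm K43.VADef K34

namespace K386.NormGen

variable {X S : Scheme.{u}}

/-- `HImm` is local for the basic opens of the subring. -/
theorem himm_of_away {W : X.Opens} {B : Subring Γ(X, W)}
    (h : ∀ y ∈ W, ∃ (b : Γ(X, W)) (hb : b ∈ B), y ∈ X.basicOpen b ∧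
      HImm (X.basicOpen b) (HImmFin.fracSub (ores (X.basicOpen_le b)) B hb)) : HImm W B := by
  rw [ImmAff.himm_iff]
  intro y hy
  obtain ⟨b, hb, hyb, him⟩ := h y hy
  rw [ImmAff.himm_iff] at him
  obtain ⟨g, ⟨k, b₁, hb₁, hg⟩, hyg, haf, hs⟩ := him y hyb
  have hbu : IsUnit (ores (X.basicOpen_le b) b) := RingedSpace.isUnit_res_basicOpen _ b
  have e : X.basicOpen (b₁ * b) = X.basicOpen g := by
    have h1 : X.basicOpen (g * ores (X.basicOpen_le b) b ^ k) = X.basicOpen g := by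
      rw [Scheme.basicOpen_mul, Scheme.basicOpen_of_isUnit X (hbu.pow k)]
      exact inf_eq_left.mpr (X.basicOpen_le _)
    rw [← h1, hg, Scheme.basicOpen_mul]
    change _ = X.basicOpen (X.presheaf.map (homOfLE (X.basicOpen_le b)).op b₁)
    rw [Scheme.basicOpen_res, inf_comm]
  refine ⟨b₁ * b, mul_mem hb₁ hb, by rw [e]; exact hyg, by rw [e]; exact haf, fun c => ?_⟩
  obtain ⟨n, b', ⟨l, b₃, hb₃, hb'⟩, hc⟩ := hs (ores e.ge c)
  refine ⟨n + l, b₃ * b ^ (k * n) * b₁ ^ l * b ^ n, mul_mem (mul_mem (mul_mem hb₃ (pow_mem hb _)) (pow_mem hb₁ _))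
    (pow_mem hb _), ?_⟩
  have hgb : ores (X.basicOpen_le g) g * ores (X.basicOpen_le g) (ores (X.basicOpen_le b) b) ^ k =
      ores (X.basicOpen_le g) (ores (X.basicOpen_le b) b₁) := by
    have := congrArg (ores (X.basicOpen_le g)) hg
    rwa [map_mul, map_pow] at this
  have hbb : ores (X.basicOpen_le g) b' * ores (X.basicOpen_le g) (ores (X.basicOpen_le b) b) ^ l =
      ores (X.basicOpen_le g) (ores (X.basicOpen_le b) b₃) := by
    have := congrArg (ores (X.basicOpen_le g)) hb'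
    rwa [map_mul, map_pow] at this
  have key : ores e.ge (c * ores (X.basicOpen_le (b₁ * b)) (b₁ * b) ^ (n + l)) =
      ores e.ge (ores (X.basicOpen_le (b₁ * b)) (b₃ * b ^ (k * n) * b₁ ^ l * b ^ n)) := by
    simp only [map_mul, map_pow, ores_ores]
    simp only [ores_ores] at hgb hbb
    rw [← hbb, ← hc, mul_pow, pow_add _ n l, ← hgb]
    ring
  have h2 := congrArg (ores e.le) key
  rwa [ores_ores, ores_ores, ores_refl, ores_refl] at h2

/-- If a sum does not vanish at a point then some term does not. -/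
theorem exists_mem_nv_of_closure {M : X.Modules} {U : X.Opens} (hM : LocGen M U) {T : Set Γ(M, U)} {e : Γ(M, U)}
    (he : e ∈ AddSubgroup.closure T) {x : X} (hx : x ∈ nv M e) : ∃ t ∈ T, x ∈ nv M t := by
  by_contra hcon
  push Not at hcon
  obtain ⟨V, ε, hxV, hVU, hε⟩ := hM x (nv_le _ _ hx)
  have key : ∀ t ∈ AddSubgroup.closure T, ∃ a : Γ(X, V), res M hVU t = a • ε ∧ x ∉ X.basicOpen a := by
    intro t ht
    induction ht using AddSubgroup.closure_induction with
    | mem t ht =>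
      obtain ⟨a, ha⟩ := hε.exists_eq (res M hVU t)
      refine ⟨a, ha, fun hxa => hcon t ht ?_⟩
      have h1 := nv_inf_of_eq_smul t hVU hε a ha
      rw [← h1] at hxa
      exact hxa.2
    | zero => exact ⟨0, by rw [zero_smul, map_zero], by rw [Scheme.basicOpen_zero]; exact id⟩
    | add t t' _ _ h1 h2 =>
      obtain ⟨a, h1, ha⟩ := h1
      obtain ⟨b, h2, hb⟩ := h2
      refine ⟨a + b, by rw [add_smul, map_add, h1, h2], ?_⟩
      rw [Scheme.mem_basicOpen X _ x hxV] at ha hb ⊢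
      rw [map_add]
      exact fun hu => ((IsLocalRing.isUnit_or_isUnit_of_isUnit_add hu).elim ha hb)
    | neg t _ h1 =>
      obtain ⟨a, h1, ha⟩ := h1
      refine ⟨-a, by rw [neg_smul, map_neg, h1], ?_⟩
      rw [Scheme.mem_basicOpen X _ x hxV] at ha ⊢
      rw [map_neg]
      exact fun hu => ha (IsUnit.neg_iff _ |>.mp hu)
  obtain ⟨a, ha, hxa⟩ := key e he
  refine hxa ?_
  rw [← nv_inf_of_eq_smul e hVU hε a ha]
  exact ⟨hxV, hx⟩

theorem ratio_aux {M : X.Modules} {W V₁ V₂ V : X.Opens} (h1 : V₁ ≤ W) (h2 : V₂ ≤ W) (h1' : V ≤ V₁) (h2' : V ≤ V₂)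
    {e t : Γ(M, W)} {p : Γ(M, V₁)} (hp : IsGen p) {b c : Γ(X, V₁)} {r : Γ(X, V₂)} (hb : res M h1 e = b • p)
    (hc : res M h1 t = c • p) (hr : res M h2 t = r • res M h2 e) : ores h2' r * ores h1' b = ores h1' c := by
  apply (hp.res h1').ext
  have h1 := congrArg (res M h2') hr
  have h2 := congrArg (res M h1') hc
  have h3 := congrArg (res M h1') hb
  rw [res_res, res_smul] at h2 h3
  rw [res_res, res_smul, res_res] at h1
  rw [mul_smul, ← h3, ← h2]
  exact h1.symm

section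

variable (f : X ⟶ S) {L : X.Modules} (hL : PicF.IsInvertible L) {U : S.Opens}
  (hng : ∀ n : ℕ, 1 ≤ n → AddSubgroup.closure {t : Γ(CohB1.tensorPow L (n + 1), f ⁻¹ᵁ U) |
    ∃ (m : Γ(CohB1.tensorPow L n, f ⁻¹ᵁ U)) (s : Γ(L, f ⁻¹ᵁ U)), t = tmul m s} = ⊤)

/-- The ring of ratios `t / s` over the nonvanishing locus of `s`. -/
noncomputable def rr (s : Γ(L, f ⁻¹ᵁ U)) : Subring Γ(X, nv L s) :=
  ratioRing f (𝟙 ((Scheme.Modules.pushforward f).obj L)) (U := U) s

theorem exists_rr (s t : Γ(L, f ⁻¹ᵁ U)) : ∃ b ∈ rr f s, res L (nv_le L s) t = b • res L (nv_le L s) s :=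
  exists_ratio f (𝟙 ((Scheme.Modules.pushforward f).obj L)) (U := U) s t

include hng in
/-- Sections of powers are polynomials in the sections of `L`. -/
theorem exists_eq_smul_pow (s : Γ(L, f ⁻¹ᵁ U)) (n : ℕ) (hn : 1 ≤ n) (e : Γ(CohB1.tensorPow L n, f ⁻¹ᵁ U)) :
    ∃ b ∈ rr f s, res (CohB1.tensorPow L n) (nv_le L s) e = b • pow (res L (nv_le L s) s) n := by
  have h0 := exists_rr f s
  induction n, hn using Nat.le_induction with
  | base =>
    let t : Γ(L, f ⁻¹ᵁ U) := (Tens.lunit L).hom.app (f ⁻¹ᵁ U) e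
    obtain ⟨b, hb, ht⟩ := h0 t
    refine ⟨b, hb, ?_⟩
    have hu : ∀ (V : X.Opens) (z : Γ(L, V)), (Tens.lunit L).hom.app V (tmul (one V) z) = z := by
      intro V z
      exact (Tens.lunit_hom_tmul (1 : Γ(X, V)) z).trans (one_smul _ _)
    have hinj : Function.Injective ((Tens.lunit L).hom.app (nv L s)) :=
      (ConcreteCategory.bijective_of_isIso ((Tens.lunit L).hom.app (nv L s))).1
    have key : ∀ e' : Γ(CohB1.tensorMod (Coh.structureModule X) L, f ⁻¹ᵁ U),
        res L (nv_le L s) ((Tens.lunit L).hom.app (f ⁻¹ᵁ U) e') = b • res L (nv_le L s) s →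
        res _ (nv_le L s) e' = b • tmul (one (nv L s)) (res L (nv_le L s) s) := by
      intro e' he'
      apply hinj
      rw [app_res, Scheme.Modules.Hom.app_smul, hu, he']
    exact key e ht
  | succ n hn ih =>
    have he : e ∈ AddSubgroup.closure {t : Γ(CohB1.tensorPow L (n + 1), f ⁻¹ᵁ U) |
        ∃ (m : Γ(CohB1.tensorPow L n, f ⁻¹ᵁ U)) (s : Γ(L, f ⁻¹ᵁ U)), t = tmul m s} := by
      rw [hng n hn]; trivial
    induction he using AddSubgroup.closure_induction with
    | mem e he =>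
      obtain ⟨m, t, rfl⟩ := he
      obtain ⟨b, hb, hm⟩ := ih m
      obtain ⟨c, hc, ht⟩ := h0 t
      refine ⟨b * c, mul_mem hb hc, ?_⟩
      change res (CohB1.tensorMod (CohB1.tensorPow L n) L) _ (tmul m t) =
        (b * c) • tmul (pow (res L (nv_le L s) s) n) (res L (nv_le L s) s)
      rw [res_tmul, hm, ht, smul_tmul, tmul_smul, ← mul_smul]
    | zero => exact ⟨0, zero_mem _, by rw [map_zero, zero_smul]⟩
    | add e e' _ _ h1 h2 =>
      obtain ⟨b, hb, h1⟩ := h1
      obtain ⟨c, hc, h2⟩ := h2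
      exact ⟨b + c, add_mem hb hc, by rw [map_add, h1, h2, add_smul]⟩
    | neg e _ h1 =>
      obtain ⟨b, hb, h1⟩ := h1
      exact ⟨-b, neg_mem hb, by rw [map_neg, h1, neg_smul]⟩

include hL hng in
theorem at_of_normallyGenerated {n : ℕ} (hn : 1 ≤ n)
    (hAt : ∀ x ∈ f ⁻¹ᵁ U, At f (𝟙 ((Scheme.Modules.pushforward f).obj (CohB1.tensorPow L (n + 1)))) U x) :
    ∀ x ∈ f ⁻¹ᵁ U, At f (𝟙 ((Scheme.Modules.pushforward f).obj L)) U x := by
  intro x hx
  have hinv := isInvertible_tensorPow hL (n + 1)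
  have hnv : ∀ y ∈ f ⁻¹ᵁ U, ∃ s : Γ(L, f ⁻¹ᵁ U), y ∈ nv L s := by
    intro y hy
    obtain ⟨e, hye, -⟩ := hAt y hy
    have hye' : y ∈ nv (CohB1.tensorPow L (n + 1)) (show Γ(CohB1.tensorPow L (n + 1), f ⁻¹ᵁ U) from e) := hye
    obtain ⟨t, ⟨m, s, rfl⟩, ht⟩ := exists_mem_nv_of_closure (K42.VATens.locGen_of_isInvertible hinv _)
      (by rw [hng n hn]; trivial) hye'
    refine ⟨s, ?_⟩
    have h1 : nv (CohB1.tensorPow L (n + 1)) (tmul m s) = nv _ m ⊓ nv L s :=
      K42.VATens.nv_tmul (K42.VATens.locGen_of_isInvertible (isInvertible_tensorPow hL n) _)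
        (K42.VATens.locGen_of_isInvertible hL _) m s
    rw [h1] at ht
    exact ht.2
  obtain ⟨s, hxs⟩ := hnv x hx
  refine ⟨s, hxs, ?_⟩
  change HImm (nv L s) (rr f s)
  refine himm_of_away fun y hy => ?_
  have hyW : y ∈ f ⁻¹ᵁ U := nv_le L s hy
  obtain ⟨e, hye, he⟩ := hAt y hyW
  have hsg : IsGen (res L (nv_le L s) s) := isGen_nv L s
  have hpg : IsGen (pow (res L (nv_le L s) s) (n + 1)) := hsg.pow (n + 1)
  obtain ⟨b, hb, heb⟩ := exists_eq_smul_pow f hng s (n + 1) (Nat.succ_le_succ (Nat.zero_le n)) e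
  have hD : nv L s ⊓ nz f (𝟙 ((Scheme.Modules.pushforward f).obj (CohB1.tensorPow L (n + 1)))) e = X.basicOpen b :=
    nv_inf_of_eq_smul _ (nv_le L s) hpg b heb
  have hle : X.basicOpen b ≤ nz f (𝟙 ((Scheme.Modules.pushforward f).obj (CohB1.tensorPow L (n + 1)))) e :=
    hD.ge.trans inf_le_right
  refine ⟨b, hb, by rw [← hD]; exact ⟨hy, hye⟩, (he.res hle).mono ?_⟩
  rintro _ ⟨r, hr, rfl⟩
  refine ores_mem_of_closure hle _ _ ?_ hr
  rintro r (⟨a, rfl⟩ | ⟨t, ht⟩)
  · refine ⟨0, ores (nv_le L s) (f.app U a), app_mem_ratioRing f (𝟙 ((Scheme.Modules.pushforward f).obj L)) s a, ?_⟩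
    rw [_root_.pow_zero]
    refine (_root_.mul_one _).trans ?_
    exact (ores_ores _ _ _).trans (ores_ores _ _ _).symm
  · obtain ⟨c, hc, htc⟩ := exists_eq_smul_pow f hng s (n + 1) (Nat.succ_le_succ (Nat.zero_le n)) t
    refine ⟨1, c, hc, ?_⟩
    rw [pow_one]
    exact ratio_aux (nv_le L s) (nz_le f _ e) (X.basicOpen_le b) hle hpg heb htc ht

end

/-- A normally generated ample invertible module on a scheme of finite type over an affine scheme is very ample. -/
theorem isRelVeryAmplePn_of_normallyGenerated [IsAffine S] (f : X ⟶ S) [LocallyOfFiniteType f] {L : X.Modules}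
    (hL : PicF.IsInvertible L) (hLa : CohB1.IsAmple L)
    (hng : ∀ n : ℕ, 1 ≤ n → AddSubgroup.closure {t : Γ(CohB1.tensorPow L (n + 1), ⊤) |
      ∃ (m : Γ(CohB1.tensorPow L n, ⊤)) (s : Γ(L, ⊤)), t = tmul m s} = ⊤) :
    VA f (𝟙 ((Scheme.Modules.pushforward f).obj L)) ∧ RelAmple.IsRelVeryAmplePn f L := by
  have hamp := isAmple_iff_ampleOn_top.mp hLa
  have hcpt : CompactSpace X := hLa.2.1
  have hqsp : QuasiSeparatedSpace X := Groth.Agent.Fdesc.LocGen.quasiSeparatedSpace_of_isAmple hLa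
  have hqc : QuasiCompact f := inferInstance
  have hqs : QuasiSeparated f := inferInstance
  obtain ⟨n₀, hn₀⟩ := AmpleAt.exists_at f (isAffineOpen_top S) (L := L) hamp
  have h1 := at_of_normallyGenerated f hL (U := ⊤) hng (n := n₀ + 1) (Nat.le_add_left 1 n₀)
    (hn₀ (n₀ + 1 + 1) (by omega))
  have hva : VA f (𝟙 ((Scheme.Modules.pushforward f).obj L)) :=
    va_of_cover (FinVA.isQCoh_push f (Groth.Agent.PerfB.TensInv.isQCoh_of_isInvertible hL))
      fun x => ⟨⊤, isAffineOpen_top S, trivial, h1 x trivial⟩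
  exact ⟨hva, VAPn.isRelVeryAmplePn_of_va f hL _ hva⟩

end K386.NormGen
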