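import Groth.Agent.PerfC.MasterSupp
import Groth.Agent.Flat2G.FibDimVanish

/-!
# Cohomology of families of curves over an affine noetherian base

* `projective_homology_zero`: bounded complex of finite projectives in degrees `≤ 0`, exact in degrees `< -1`, `H_{-1}`
  projective: `H_0` is finite projective;
* `projective_HH_zero`: proper over a noetherian ring, fibres of dimension `≤ 1`, `F` coherent and flat, `H^1(X, F)`
  projective: `H^0(X, F)` is finite projective.
-/

set_option autoImplicit false
universe u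
open CategoryTheory CategoryTheory.Limits AlgebraicGeometry TopologicalSpace Opposite

namespace K386.RelCurve

open Groth.Agent.PerfC.MasterSupp Groth.Agent.CurvesB.FreeHOne

variable {A : Type u} [CommRing A]

theorem finite_projective_ker' {M K : Type*} [AddCommGroup M] [Module A M] [AddCommGroup K] [Module A K]
    [Module.Finite A M] [Module.Projective A K] (f : M →ₗ[A] K)
    [Module.Projective A (K ⧸ LinearMap.range f)] [Module.Projective A M] :
    Module.Finite A (LinearMap.ker f) ∧ Module.Projective A (LinearMap.ker f) := by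
  have hR : Module.Projective A (LinearMap.range f) := by
    obtain ⟨s, hs⟩ := Module.projective_lifting_property (LinearMap.range f).mkQ
      LinearMap.id (Submodule.mkQ_surjective _)
    refine Module.Projective.of_split (LinearMap.range f).subtype
      (LinearMap.codRestrict _ (LinearMap.id - s ∘ₗ (LinearMap.range f).mkQ) fun x => ?_) ?_
    · rw [← Submodule.Quotient.mk_eq_zero, LinearMap.sub_apply, Submodule.Quotient.mk_sub, sub_eq_zero]
      exact (LinearMap.congr_fun hs (Submodule.Quotient.mk x)).symm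
    · ext x
      have hx : (LinearMap.range f).mkQ x.1 = 0 := (Submodule.Quotient.mk_eq_zero _).mpr x.2
      simp [hx]
  obtain ⟨s, hs⟩ := Module.projective_lifting_property f.rangeRestrict LinearMap.id f.surjective_rangeRestrict
  have hker : ∀ x : M, x ∈ LinearMap.ker f ↔ f.rangeRestrict x = 0 := fun x =>
    ⟨fun h => Subtype.ext h, fun h => congrArg Subtype.val h⟩
  let r : M →ₗ[A] LinearMap.ker f :=
    LinearMap.codRestrict _ (LinearMap.id - s ∘ₗ f.rangeRestrict) fun x => by
      rw [hker, LinearMap.sub_apply, map_sub, sub_eq_zero]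
      exact (LinearMap.congr_fun hs (f.rangeRestrict x)).symm
  have hr : r ∘ₗ (LinearMap.ker f).subtype = LinearMap.id := by
    ext x
    have hx := (hker x.1).mp x.2
    change (x.1 - s (f.rangeRestrict x.1)) = x.1
    rw [hx, map_zero, sub_zero]
  exact ⟨Module.Finite.of_surjective r fun z => ⟨z, LinearMap.congr_fun hr z⟩,
    Module.Projective.of_split (LinearMap.ker f).subtype r hr⟩

theorem projective_homology_zero (P : ChainComplex (ModuleCat.{u} A) ℤ)
    (hP : ∀ i, Module.Finite A (P.X i) ∧ Module.Projective A (P.X i)) (b : ℤ)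
    (hb : ∀ i, (i < b ∨ 0 < i) → IsZero (P.X i)) (hex : ∀ i, i < -1 → IsZero (P.homology i))
    (h1 : Module.Projective A (P.homology (-1))) :
    Module.Finite A (P.homology 0) ∧ Module.Projective A (P.homology 0) := by
  have hret : HasRet P (-1) :=
    hasRet_of_exact P (fun i => (hP i).2) b (fun i hi => hb i (Or.inl hi)) (-1) hex (-1) le_rfl
  obtain ⟨hKfin, hKproj⟩ := finite_projective_ker P hP (-1) hret
  -- the homology in degree `-1`
  let S := P.sc' 0 (-1) (-1 - 1)
  have e1 : P.homology (-1) ≅ S.homology :=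
    P.homologyIsoSc' 0 (-1) (-1 - 1) (by simp) (by simp)
  have e2 : S.homology ≅ ModuleCat.of A (LinearMap.ker S.g.hom ⧸ LinearMap.range S.moduleCatToCycles) :=
    S.moduleCatHomologyIso
  have hQ : Module.Projective A (LinearMap.ker S.g.hom ⧸ LinearMap.range S.moduleCatToCycles) :=
    Module.Projective.of_equiv (e1 ≪≫ e2).toLinearEquiv
  have hKproj' : Module.Projective A (LinearMap.ker S.g.hom) := hKproj
  have hPX0 : Module.Projective A S.X₁ := (hP 0).2
  have hPX0f : Module.Finite A S.X₁ := (hP 0).1
  obtain ⟨hfin', hproj'⟩ := finite_projective_ker' S.moduleCatToCycles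
  have hkk : LinearMap.ker S.moduleCatToCycles = LinearMap.ker S.f.hom := by
    ext x
    exact ⟨fun h => congrArg Subtype.val h, fun h => Subtype.ext h⟩
  rw [hkk] at hfin' hproj'
  have hfin : Module.Finite A (LinearMap.ker (P.d 0 (0 - 1)).hom) := hfin'
  have hproj : Module.Projective A (LinearMap.ker (P.d 0 (0 - 1)).hom) := hproj'
  have hd : P.d 1 0 = 0 := (hb 1 (Or.inr one_pos)).eq_of_src _ _
  have i1 : IsIso (P.homologyπ 0) := by
    have : (P.sc 0).f = 0 := by
      have : P.dTo 0 = 0 := by
        rw [HomologicalComplex.dTo_eq P (show (ComplexShape.down ℤ).Rel 1 0 by simp), hd, comp_zero]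
      exact this
    exact ShortComplex.isIso_homologyπ _ this
  let e3 : P.cycles 0 ≅ P.homology 0 := asIso (P.homologyπ 0)
  let e4 : P.cycles 0 ≅ ModuleCat.of A (LinearMap.ker (P.d 0 (0 - 1)).hom) :=
    IsLimit.conePointUniqueUpToIso (P.cyclesIsKernel 0 (0 - 1) (by simp)) (ModuleCat.kernelIsLimit (P.d 0 (0 - 1)))
  let e : LinearMap.ker (P.d 0 (0 - 1)).hom ≃ₗ[A] P.homology 0 := (e4.symm ≪≫ e3).toLinearEquiv
  exact ⟨Module.Finite.equiv e, Module.Projective.of_equiv e⟩

theorem projective_HH_zero [IsNoetherianRing A] (X : Scheme.{u}) [X.Over (Spec (CommRingCat.of A))]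
    [IsProper (X ↘ Spec (CommRingCat.of A))]
    (hdim : ∀ s : Spec (CommRingCat.of A), topologicalKrullDim ↥((X ↘ Spec (CommRingCat.of A)).fiber s) ≤ 1)
    (F : X.Modules) (hF : Coh.IsCoh F) (hfl : FlatMod.IsFlatOver (X ↘ Spec (CommRingCat.of A)) F)
    (h1 : Module.Projective A (Coh.HH X F 1)) :
    Module.Finite A (Coh.HH X F 0) ∧ Module.Projective A (Coh.HH X F 0) := by
  obtain ⟨P, p1, ⟨b, p2⟩, -, p3⟩ := Groth.Agent.Ega3B.Master.exists_complex' X F hF hfl
  have hP : ∀ i, Module.Finite A (P.X i) ∧ Module.Projective A (P.X i) := fun i => by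
    have h1 := (p1 i).1
    have h2 := (p1 i).2
    have h3 : Module.FinitePresentation A (P.X i) := Module.finitePresentation_of_finite A (P.X i)
    exact ⟨h1, Module.Flat.projective_of_finitePresentation⟩
  obtain ⟨e1⟩ := p3 1
  obtain ⟨h2, h3⟩ := projective_homology_zero P hP b p2 (fun i hi => by
    obtain ⟨p, rfl⟩ : ∃ p : ℕ, i = -(p : ℤ) := ⟨(-i).toNat, by omega⟩
    obtain ⟨e⟩ := p3 p
    have := Groth.Agent.Flat2G.FibDimVanish.subsingleton_HH (X ↘ Spec (CommRingCat.of A)) 1
      (fun y => by simpa using hdim y) F hF.1 p (by omega)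
    exact @ModuleCat.isZero_of_subsingleton A _ _ e.toEquiv.subsingleton)
    (Module.Projective.of_equiv (M := Coh.HH X F 1) e1.symm)
  obtain ⟨e⟩ := p3 0
  exact ⟨Module.Finite.equiv (M := P.homology 0) e, Module.Projective.of_equiv (M := P.homology 0) e⟩

end K386.RelCurve
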